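import Cfsg.Agent.Lib.Block.SFourFree.Stage2
import Cfsg.Prelude.Def_CaseTheorems

/-!
The maximal 2-local subgroup over a 2-subgroup is unique when all 2-local subgroups are solvable, of
characteristic two and free of inverted elements of order three.
-/

set_option autoImplicit false
set_option linter.unusedSectionVars false
set_option linter.style.haveILetI false

namespace Cfsg.Agent.Block.SFour

open Subgroup Cfsg.Agent.Invol
open scoped Pointwise commutatorElement

universe u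

variable {G : Type u} [Group G] [Finite G]

/-- The two factorisations in a subgroup, seen in the ambient group. -/
theorem factor_two_map {K : Type u} [Group K] [Finite K] (hK : Local K) (f : K →* G)
    (hf : Function.Injective f) (S : Sylow 2 K) {T : Subgroup G} (hT : (S : Subgroup K).map f = T) :
    f.range ≤ (f.range ⊓ normalizer (uHat T : Set G)) ⊔
      (f.range ⊓ normalizer (Cfsg.thompsonSubgroupOf 2 T : Set G)) := by
  have h := factor_two _ K rfl hK S
  rw [MonoidHom.range_eq_map, ← h, Subgroup.map_sup]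
  refine sup_le_sup (le_inf (le_sup_left) ?_) (le_inf (le_sup_right) ?_)
  · refine (Subgroup.le_normalizer_map f).trans (le_of_eq ?_)
    rw [uHat_map hf, hT]
  · refine (Subgroup.le_normalizer_map f).trans (le_of_eq ?_)
    rw [← JComp.thompson_map f hf, hT]

theorem factor_one_in {L T : Subgroup G} (hL : Local L) (hT : Grp.IsSylowIn 2 T L) {x : G}
    (hx : x ∈ L) :
    ∃ c ∈ L ⊓ centralizer (omegaZ T : Set G),
      ∃ d ∈ normalizer (Cfsg.thompsonSubgroupOf 2 T : Set G) ⊓ normalizer (jHat T : Set G),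
        x = c * d := by
  haveI : Fact (Nat.Prime 2) := ⟨Nat.prime_two⟩
  obtain ⟨P, hP⟩ := Grp.isSylowIn_iff.mp hT
  obtain ⟨c, hc, d, hd, he⟩ := factor_one hL P ⟨x, hx⟩
  refine ⟨c, ⟨c.2, ?_⟩, d, ⟨?_, ?_⟩, congrArg Subtype.val he⟩
  · rw [← hP, ← omegaZ_map L.subtype_injective]
    exact (mem_centralizer_map L.subtype_injective).mpr hc
  · rw [← hP, JComp.thompson_map L.subtype L.subtype_injective]
    exact Subgroup.le_normalizer_map L.subtype (Subgroup.mem_map_of_mem _ hd.1)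
  · rw [← hP, ← jHat_map L.subtype_injective]
    exact Subgroup.le_normalizer_map L.subtype (Subgroup.mem_map_of_mem _ hd.2)

theorem lt_inf_normalizer {T R : Subgroup G} (hR : IsPGroup 2 R) (h : T < R) :
    T < R ⊓ normalizer (T : Set G) := by
  haveI : Fact (Nat.Prime 2) := ⟨Nat.prime_two⟩
  haveI : Group.IsNilpotent R := hR.isNilpotent
  have hlt : T.subgroupOf R < ⊤ :=
    lt_top_iff_ne_top.mpr fun e => h.not_ge (Subgroup.subgroupOf_eq_top.mp e)
  have h2 := Group.normalizerCondition_of_isNilpotent (T.subgroupOf R) hlt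
  obtain ⟨⟨x, hxR⟩, hxn, hxT⟩ := SetLike.exists_of_lt h2
  refine lt_of_le_of_ne (le_inf h.le Subgroup.le_normalizer) fun e => hxT ?_
  rw [Subgroup.mem_subgroupOf]
  rw [← Subgroup.subgroupOf_normalizer_eq h.le] at hxn
  rw [e]
  exact ⟨hxR, hxn⟩

variable (G) in
/-- The hypothesis on the 2-local subgroups. -/
def GoodLocals : Prop := ∀ N : Subgroup G, Cfsg.IsTwoLocal N → Local N

/-- At most one maximal 2-local subgroup contains `T`. -/
def Uniq (T : Subgroup G) : Prop :=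
  ∀ M M' : Subgroup G, Cfsg.IsMaximalTwoLocal M → Cfsg.IsMaximalTwoLocal M' → T ≤ M → T ≤ M' → M = M'

theorem exists_maximal {X : Subgroup G} (hX : Cfsg.IsTwoLocal X) :
    ∃ L, Cfsg.IsMaximalTwoLocal L ∧ X ≤ L := by
  obtain ⟨L, ⟨hL, hXL⟩, hmax⟩ := Set.exists_max_image {L : Subgroup G | Cfsg.IsTwoLocal L ∧ X ≤ L}
    (fun L => Nat.card ↥L) (Set.toFinite _) ⟨X, hX, le_rfl⟩
  exact ⟨L, ⟨hL, fun N hN hLN =>
    (Subgroup.eq_of_le_of_card_ge hLN (hmax N ⟨hN, hXL.trans hLN⟩)).symm⟩, hXL⟩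

theorem uniq_top (hG : GoodLocals G) (S : Sylow 2 G) (hS1 : (S : Subgroup G) ≠ ⊥) :
    Uniq (S : Subgroup G) := by
  haveI : Fact (Nat.Prime 2) := ⟨Nat.prime_two⟩
  set T : Subgroup G := (S : Subgroup G) with hT
  have hTp : IsPGroup 2 T := S.isPGroup'
  set Z := omegaZ T with hZ
  set A := centralizer (Z : Set G) with hA
  set J := Cfsg.thompsonSubgroupOf 2 T with hJ
  set U := uHat T with hU
  set D := normalizer (J : Set G) ⊓ normalizer (jHat T : Set G) with hD
  have hJp : IsPGroup 2 J := hTp.to_le (thompsonEl_le T)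
  have hUJ : U ≤ J := uHat_le_thompson T
  have hZU : Z ≤ U := omegaZ_le_uHat T
  have hZ1 : Z ≠ ⊥ := omegaZ_ne_bot hTp hS1
  have hJ1 : J ≠ ⊥ := thompson_ne_bot hTp hS1
  have hU1 : U ≠ ⊥ := fun e => hZ1 (le_bot_iff.mp (e ▸ hZU))
  have hlocZ : Cfsg.IsTwoLocal (normalizer (Z : Set G)) :=
    ⟨Z, hTp.to_le (omegaZ_le T), hZ1, rfl⟩
  have hlocJ : Cfsg.IsTwoLocal (normalizer (J : Set G)) := ⟨J, hJp, hJ1, rfl⟩
  have hlocU : Cfsg.IsTwoLocal (normalizer (U : Set G)) := ⟨U, hJp.to_le hUJ, hU1, rfl⟩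
  have hTJ : T ≤ normalizer (J : Set G) := Subgroup.le_normalizer.trans (normalizer_le_thompson T)
  have hTU : T ≤ normalizer (U : Set G) :=
    Subgroup.le_normalizer.trans ((normalizer_le_jHat T).trans (normalizer_jHat_le T))
  have hsyl : ∀ N : Subgroup G, T ≤ N → Grp.IsSylowIn 2 T N := fun N hN =>
    ⟨hN, hTp, fun hdvd => S.not_dvd_index (hdvd.trans (Subgroup.relIndex_dvd_index_of_le hN))⟩
  -- the second factorisation in `C(Z)`
  have hA2 : A ≤ (A ⊓ normalizer (U : Set G)) ⊔ (A ⊓ normalizer (J : Set G)) := by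
    set N := normalizer (Z : Set G)
    have hAN : A ≤ N := Subgroup.centralizer_le_normalizer _
    have hTA : T ≤ A := le_centralizer_omegaZ T
    obtain ⟨P, hP⟩ := Grp.isSylowIn_iff.mp (hsyl N (hTA.trans hAN))
    have hPA : (P : Subgroup N) ≤ A.subgroupOf N := fun x hx => hTA (hP ▸ Subgroup.mem_map_of_mem _ hx)
    have hrange : (N.subtype.comp (A.subgroupOf N).subtype).range = A := by
      rw [MonoidHom.range_comp, Subgroup.range_subtype, Subgroup.map_subgroupOf_eq_of_le hAN]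
    have h := factor_two_map ((hG N hlocZ).overgroup P hPA) (N.subtype.comp (A.subgroupOf N).subtype)
      (N.subtype_injective.comp (A.subgroupOf N).subtype_injective) (P.subtype hPA) (T := T) (by
        rw [← Subgroup.map_map, Sylow.coe_subtype, Subgroup.map_subgroupOf_eq_of_le hPA, hP])
    rwa [hrange] at h
  -- `C(Z) D = D C(Z)`
  have hbase : ∀ X : Subgroup G, Cfsg.IsTwoLocal X → T ≤ X → D ≤ X →
      ∀ a ∈ A ⊓ X, ∀ d ∈ D, ∃ d' ∈ D, ∃ a' ∈ A, a * d = d' * a' := by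
    intro X hX hTX hDX a ha d hd
    obtain ⟨c, hc, e, he, hce⟩ :=
      factor_one_in (hG X hX) (hsyl X hTX) (inv_mem (mul_mem ha.2 (hDX hd)))
    refine ⟨e⁻¹, D.inv_mem he, c⁻¹, A.inv_mem hc.2, ?_⟩
    rw [← inv_inv (a * d), hce, mul_inv_rev]
  have hswap : ∀ a ∈ A, ∀ d ∈ D, ∃ d' ∈ D, ∃ a' ∈ A, a * d = d' * a' := by
    intro a ha
    have h1 := hA2 ha
    rw [← Subgroup.closure_eq (A ⊓ normalizer (U : Set G)), ← Subgroup.closure_eq (A ⊓ normalizer (J : Set G)),
      ← Subgroup.closure_union] at h1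
    suffices ∀ x, x ∈ closure (((A ⊓ normalizer (U : Set G) : Subgroup G) : Set G) ∪
        ((A ⊓ normalizer (J : Set G) : Subgroup G) : Set G)) →
        (∀ d ∈ D, ∃ d' ∈ D, ∃ a' ∈ A, x * d = d' * a') ∧
          (∀ d ∈ D, ∃ d' ∈ D, ∃ a' ∈ A, x⁻¹ * d = d' * a') from (this a h1).1
    intro x hx
    induction hx using Subgroup.closure_induction with
    | mem y hy =>
      rcases hy with hy | hy
      · have hDU : D ≤ normalizer (U : Set G) := inf_le_right.trans (normalizer_jHat_le T)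
        exact ⟨hbase _ hlocU hTU hDU y hy, hbase _ hlocU hTU hDU y⁻¹ (inv_mem hy)⟩
      · exact ⟨hbase _ hlocJ hTJ inf_le_left y hy, hbase _ hlocJ hTJ inf_le_left y⁻¹ (inv_mem hy)⟩
    | one =>
      refine ⟨fun d hd => ⟨d, hd, 1, one_mem _, by group⟩, fun d hd => ⟨d, hd, 1, one_mem _, by group⟩⟩
    | mul p q _ _ hp hq =>
      have key : ∀ p q : G, (∀ d ∈ D, ∃ d' ∈ D, ∃ a' ∈ A, p * d = d' * a') →
          (∀ d ∈ D, ∃ d' ∈ D, ∃ a' ∈ A, q * d = d' * a') →
          ∀ d ∈ D, ∃ d' ∈ D, ∃ a' ∈ A, p * q * d = d' * a' := by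
        intro p q hp hq d hd
        obtain ⟨d1, hd1, a1, ha1, e1⟩ := hq d hd
        obtain ⟨d2, hd2, a2, ha2, e2⟩ := hp d1 hd1
        exact ⟨d2, hd2, a2 * a1, A.mul_mem ha2 ha1, by rw [mul_assoc, e1, ← mul_assoc, e2, mul_assoc]⟩
      refine ⟨key p q hp.1 hq.1, ?_⟩
      rw [mul_inv_rev]
      exact key q⁻¹ p⁻¹ hq.2 hp.2
    | inv p _ hp => exact ⟨hp.2, by rw [inv_inv]; exact hp.1⟩
  -- the subgroup normalised by everything
  set W := ⨆ d : D, Z.map (MulAut.conj (d : G)).toMonoidHom with hW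
  have hZW : Z ≤ W := fun z hz => le_iSup (fun d : D => Z.map (MulAut.conj (d : G)).toMonoidHom) 1
    ⟨z, hz, by simp⟩
  have hWJ : W ≤ J := iSup_le fun d => by
    rintro _ ⟨z, hz, rfl⟩
    exact Grp.mem_conj_normalizer d.2.1 (hUJ (hZU hz))
  have hWn : A ⊔ D ≤ normalizer (W : Set G) := by
    have key : ∀ g : G, (∀ d ∈ D, ∃ d' ∈ D, ∃ a' ∈ A, g * d = d' * a') →
        g ∈ normalizer (W : Set G) := by
      intro g hg
      rw [Grp.mem_normalizer_iff_smul, ← Grp.map_conj_eq_smul]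
      refine Subgroup.eq_of_le_of_card_ge ?_
        (Subgroup.card_map_of_injective (f := (MulAut.conj g).toMonoidHom) (MulAut.conj g).injective).ge
      rw [Subgroup.map_le_iff_le_comap]
      refine iSup_le fun d => ?_
      rintro _ ⟨z, hz, rfl⟩
      obtain ⟨d', hd', a', ha', e⟩ := hg d d.2
      refine le_iSup (fun d : D => Z.map (MulAut.conj (d : G)).toMonoidHom) ⟨d', hd'⟩ ⟨z, hz, ?_⟩
      show d' * z * d'⁻¹ = g * ((d : G) * z * (d : G)⁻¹) * g⁻¹
      rw [show g * ((d : G) * z * (d : G)⁻¹) * g⁻¹ = (g * d) * z * (g * d)⁻¹ by group, e,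
        show d' * a' * z * (d' * a')⁻¹ = d' * (a' * z * a'⁻¹) * d'⁻¹ by group,
        ← Subgroup.mem_centralizer_iff.mp ha' z hz, mul_inv_cancel_right]
    exact sup_le (fun a ha => key a (hswap a ha))
      (fun g hg => key g fun d hd => ⟨g * d, D.mul_mem hg hd, 1, one_mem _, (mul_one _).symm⟩)
  have hW1 : W ≠ ⊥ := fun e => hZ1 (le_bot_iff.mp (e ▸ hZW))
  have hlocW : Cfsg.IsTwoLocal (normalizer (W : Set G)) := ⟨W, hJp.to_le hWJ, hW1, rfl⟩
  have hmain : ∀ M : Subgroup G, Cfsg.IsMaximalTwoLocal M → T ≤ M → normalizer (W : Set G) = M := by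
    intro M hM hTM
    refine hM.2 _ hlocW fun x hx => ?_
    obtain ⟨c, hc, d, hd, rfl⟩ := factor_one_in (hG M hM.1) (hsyl M hTM) hx
    exact hWn (Subgroup.mul_mem_sup hc.2 hd)
  intro M M' hM hM' h1 h2
  rw [← hmain M hM h1, hmain M' hM' h2]

theorem uniq_all (hG : GoodLocals G) :
    ∀ (n : ℕ) (T : Subgroup G), Nat.card G - Nat.card T = n → IsPGroup 2 T → T ≠ ⊥ → Uniq T := by
  haveI : Fact (Nat.Prime 2) := ⟨Nat.prime_two⟩
  intro n
  induction n using Nat.strong_induction_on with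
  | _ n ih =>
  intro T hn hT hT1
  obtain ⟨S, hTS⟩ := hT.exists_le_sylow
  rcases eq_or_lt_of_le hTS with rfl | hlt
  · exact uniq_top hG S hT1
  have hbig : ∀ R : Subgroup G, T < R → IsPGroup 2 R → Uniq R := by
    intro R hR hRp
    refine ih _ ?_ R rfl hRp (fun e => hT1 (le_bot_iff.mp (e ▸ hR.le)))
    have h1 : Nat.card T < Nat.card R := by
      refine lt_of_le_of_ne (Subgroup.card_le_of_le hR.le) fun e => hR.ne ?_
      exact Subgroup.eq_of_le_of_card_ge hR.le e.ge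
    have h2 := Subgroup.card_le_card_group R
    omega
  set T₁ := (S : Subgroup G) ⊓ normalizer (T : Set G)
  have hT₁ : T < T₁ := lt_inf_normalizer S.isPGroup' hlt
  obtain ⟨N, hN, hNle⟩ := exists_maximal (X := normalizer (T : Set G)) ⟨T, hT, hT1, rfl⟩
  have hup : ∀ X : Subgroup G, Cfsg.IsTwoLocal X → normalizer (T : Set G) ≤ X → X ≤ N := by
    intro X hX hle
    obtain ⟨M, hM, hXM⟩ := exists_maximal hX
    rw [hbig T₁ hT₁ (S.isPGroup'.to_le inf_le_left) N M hN hM (inf_le_right.trans hNle)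
      (inf_le_right.trans (hle.trans hXM))]
    exact hXM
  have hJ1 := thompson_ne_bot hT hT1
  have hU1 : uHat T ≠ ⊥ := fun e => omegaZ_ne_bot hT hT1 (le_bot_iff.mp (e ▸ omegaZ_le_uHat T))
  have hJp : IsPGroup 2 (Cfsg.thompsonSubgroupOf 2 T) := hT.to_le (thompsonEl_le T)
  have hkey : ∀ M : Subgroup G, Cfsg.IsMaximalTwoLocal M → T ≤ M → M = N := by
    intro M hM hTM
    obtain ⟨R, hR⟩ := (hT.comap_subtype (K := M)).exists_le_sylow
    set R' := (R : Subgroup M).map M.subtype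
    have hTR : T ≤ R' := fun t ht => ⟨⟨t, hTM ht⟩, hR ht, rfl⟩
    rcases eq_or_lt_of_le hTR with he | hlt'
    · have hsyl : Grp.IsSylowIn 2 T M := by
        rw [he]; exact Grp.isSylowIn_iff.mpr ⟨R, rfl⟩
      obtain ⟨P, hP⟩ := Grp.isSylowIn_iff.mp hsyl
      have h := factor_two_map (hG M hM.1) M.subtype M.subtype_injective P hP
      rw [Subgroup.range_subtype] at h
      refine (hM.2 N hN.1 (h.trans (sup_le (inf_le_right.trans ?_) (inf_le_right.trans ?_)))).symm
      · exact hup _ ⟨_, hJp.to_le (uHat_le_thompson T), hU1, rfl⟩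
          ((normalizer_le_jHat T).trans (normalizer_jHat_le T))
      · exact hup _ ⟨_, hJp, hJ1, rfl⟩ (normalizer_le_thompson T)
    · have hR'p : IsPGroup 2 R' := R.isPGroup'.map _
      have h2 := lt_inf_normalizer hR'p hlt'
      exact hbig _ h2 (hR'p.to_le inf_le_left) M N hM hN
        (inf_le_left.trans (Subgroup.map_subtype_le _)) (inf_le_right.trans hNle)
  intro M M' hM hM' h1 h2
  rw [hkey M hM h1, hkey M' hM' h2]

end Cfsg.Agent.Block.SFour
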