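import Cfsg.Agent.Lib.Block.SFourFree.Dom
import Cfsg.Agent.Lib.Invol.JCompBasic
import Cfsg.Agent.Lib.Grp.Basic

/-!
The subgroups `Ĵ(S)` and `Ω₁Z(Ĵ(S))` of a 2-group, defined by a squared bound on fixed points.
-/

set_option autoImplicit false
set_option linter.unusedSectionVars false
set_option linter.style.haveILetI false

namespace Cfsg.Agent.Block.SFour

open Subgroup Cfsg.Agent.Invol
open scoped commutatorElement

universe u v

variable {G : Type u} [Group G] [Finite G] {K : Type v} [Group K] [Finite K]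

theorem isEl_iff {A : Subgroup G} :
    Cfsg.IsElementaryAbelian 2 A ↔ (∀ x ∈ A, ∀ y ∈ A, x * y = y * x) ∧ ∀ x ∈ A, x ^ 2 = 1 :=
  ⟨fun h => ⟨fun x hx y hy => congrArg Subtype.val (h.1.is_comm.comm ⟨x, hx⟩ ⟨y, hy⟩), h.2⟩,
    fun h => ⟨⟨⟨fun a b => Subtype.ext (h.1 _ a.2 _ b.2)⟩⟩, h.2⟩⟩

theorem isEl_mono {A B : Subgroup G} (hA : Cfsg.IsElementaryAbelian 2 A) (h : B ≤ A) :
    Cfsg.IsElementaryAbelian 2 B :=
  isEl_iff.mpr ⟨fun x hx y hy => (isEl_iff.mp hA).1 x (h hx) y (h hy), fun x hx => hA.2 x (h hx)⟩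

theorem isEl_map {A : Subgroup G} (hA : Cfsg.IsElementaryAbelian 2 A) (f : G →* K) :
    Cfsg.IsElementaryAbelian 2 (A.map f) := by
  refine isEl_iff.mpr ⟨?_, ?_⟩
  · rintro _ ⟨x, hx, rfl⟩ _ ⟨y, hy, rfl⟩
    rw [← map_mul, ← map_mul, (isEl_iff.mp hA).1 x hx y hy]
  · rintro _ ⟨x, hx, rfl⟩
    rw [← map_pow, hA.2 x hx, map_one]

theorem isEl_of_map {A : Subgroup G} {f : G →* K} (hf : Function.Injective f)
    (hA : Cfsg.IsElementaryAbelian 2 (A.map f)) : Cfsg.IsElementaryAbelian 2 A := by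
  refine isEl_iff.mpr ⟨fun x hx y hy => hf ?_, fun x hx => hf ?_⟩
  · rw [map_mul, map_mul]
    exact (isEl_iff.mp hA).1 _ ⟨x, hx, rfl⟩ _ ⟨y, hy, rfl⟩
  · rw [map_pow, map_one]; exact hA.2 _ ⟨x, hx, rfl⟩

/-- Commuting involutions generate an elementary abelian group. -/
theorem isEl_closure {s : Set G} (hc : ∀ x ∈ s, ∀ y ∈ s, x * y = y * x) (h2 : ∀ x ∈ s, x ^ 2 = 1) :
    Cfsg.IsElementaryAbelian 2 (closure s) := by
  have hcomm : ∀ x ∈ closure s, ∀ y ∈ closure s, x * y = y * x := by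
    intro x hx y hy
    haveI := Subgroup.isMulCommutative_closure hc
    exact congrArg Subtype.val (mul_comm' (⟨x, hx⟩ : closure s) ⟨y, hy⟩)
  refine isEl_iff.mpr ⟨hcomm, fun x hx => ?_⟩
  induction hx using Subgroup.closure_induction with
  | mem y hy => exact h2 y hy
  | one => exact one_pow 2
  | mul a b ha hb iha ihb =>
    rw [(show Commute a b from hcomm a ha b hb).mul_pow, iha, ihb, one_mul]
  | inv a _ iha => rw [inv_pow, iha, inv_one]

theorem isEl_sup {A B : Subgroup G} (hA : Cfsg.IsElementaryAbelian 2 A)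
    (hB : Cfsg.IsElementaryAbelian 2 B) (hc : ∀ a ∈ A, ∀ b ∈ B, a * b = b * a) :
    Cfsg.IsElementaryAbelian 2 (A ⊔ B) := by
  rw [← Subgroup.closure_eq A, ← Subgroup.closure_eq B, ← Subgroup.closure_union]
  refine isEl_closure ?_ ?_
  · rintro x (hx | hx) y (hy | hy)
    · exact (isEl_iff.mp hA).1 x hx y hy
    · exact hc x hx y hy
    · exact (hc y hy x hx).symm
    · exact (isEl_iff.mp hB).1 x hx y hy
  · rintro x (hx | hx)
    · exact hA.2 x hx
    · exact hB.2 x hx

/-- An elementary abelian image in the automorphisms of `X`. -/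
def ElemImage (R X : Subgroup G) : Prop :=
  (∀ r ∈ R, r ^ 2 ∈ centralizer (X : Set G)) ∧
    ∀ r ∈ R, ∀ s ∈ R, ⁅r, s⁆ ∈ centralizer (X : Set G)

theorem relIndex_ne_zero' (A B : Subgroup G) : A.relIndex B ≠ 0 :=
  Subgroup.index_ne_zero_of_finite (H := A.subgroupOf B)

/-- Indices of fixed points multiply along a chain. -/
theorem relIndex_mul_le {C C' W₁ W₂ W : Subgroup G} (h1 : C ≤ C') (h2 : W₁ ≤ C') (h3 : W₁ ≤ W)
    (h4 : W₂ ≤ W) : C.relIndex W₁ * C'.relIndex W₂ ≤ C.relIndex W := by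
  rw [← Subgroup.inf_relIndex_right C W, ← Subgroup.relIndex_mul_relIndex (C ⊓ W) (C' ⊓ W) W
    (inf_le_inf_right _ h1) inf_le_right]
  refine Nat.mul_le_mul ?_ ?_
  · calc C.relIndex W₁ = (C ⊓ W).relIndex W₁ := by
          rw [← Subgroup.inf_relIndex_right C W₁, ← Subgroup.inf_relIndex_right (C ⊓ W) W₁, inf_assoc,
            inf_eq_right.mpr h3]
      _ ≤ (C ⊓ W).relIndex (C' ⊓ W) :=
          Subgroup.relIndex_le_of_le_right (le_inf h2 h3) (relIndex_ne_zero' _ _)
  · rw [Subgroup.inf_relIndex_right]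
    exact Subgroup.relIndex_le_of_le_right h4 (relIndex_ne_zero' _ _)

theorem relIndex_centralizer_map {f : G →* K} (hf : Function.Injective f) (A B : Subgroup G) :
    (centralizer (A.map f : Set K)).relIndex (B.map f) = (centralizer (A : Set G)).relIndex B := by
  rw [← Subgroup.relIndex_comap]
  congr 1
  ext x
  rw [Subgroup.mem_comap, Subgroup.mem_centralizer_iff, Subgroup.mem_centralizer_iff]
  exact ⟨fun h a ha => hf (by rw [map_mul, map_mul]; exact h _ ⟨a, ha, rfl⟩),
    fun h => by rintro _ ⟨a, ha, rfl⟩; rw [← map_mul, ← map_mul, h a ha]⟩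

theorem mem_centralizer_map {f : G →* K} (hf : Function.Injective f) {A : Subgroup G} {x : G} :
    f x ∈ centralizer (A.map f : Set K) ↔ x ∈ centralizer (A : Set G) := by
  rw [Subgroup.mem_centralizer_iff, Subgroup.mem_centralizer_iff]
  exact ⟨fun h a ha => hf (by rw [map_mul, map_mul]; exact h _ ⟨a, ha, rfl⟩),
    fun h => by rintro _ ⟨a, ha, rfl⟩; rw [← map_mul, ← map_mul, h a ha]⟩

theorem elemImage_map {f : G →* K} (hf : Function.Injective f) {R X : Subgroup G} :
    ElemImage (R.map f) (X.map f) ↔ ElemImage R X := by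
  constructor
  · rintro ⟨h1, h2⟩
    refine ⟨fun r hr => (mem_centralizer_map hf).mp (by rw [map_pow]; exact h1 _ ⟨r, hr, rfl⟩),
      fun r hr s hs => (mem_centralizer_map hf).mp ?_⟩
    rw [map_commutatorElement]; exact h2 _ ⟨r, hr, rfl⟩ _ ⟨s, hs, rfl⟩
  · rintro ⟨h1, h2⟩
    refine ⟨?_, ?_⟩
    · rintro _ ⟨r, hr, rfl⟩
      rw [← map_pow]; exact (mem_centralizer_map hf).mpr (h1 r hr)
    · rintro _ ⟨r, hr, rfl⟩ _ ⟨s, hs, rfl⟩
      rw [← map_commutatorElement]; exact (mem_centralizer_map hf).mpr (h2 r hr s hs)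

theorem elemImage_of_isEl {R X : Subgroup G} (hR : Cfsg.IsElementaryAbelian 2 R) : ElemImage R X :=
  ⟨fun r hr => by rw [hR.2 r hr]; exact one_mem _, fun r hr s hs => by
    rw [commutatorElement_eq_one_iff_mul_comm.mpr ((isEl_iff.mp hR).1 r hr s hs)]; exact one_mem _⟩

theorem le_map_of_le {f : G →* K} {B : Subgroup K} {A : Subgroup G} (h : B ≤ A.map f) :
    (B.comap f).map f = B := by
  rw [Subgroup.map_comap_eq, inf_eq_right]
  exact h.trans (Subgroup.map_le_range f A)

/-- Every normal elementary abelian subgroup satisfying the squared bound is central. -/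
def IsE (T : Subgroup G) : Prop :=
  ∀ V : Subgroup G, Cfsg.IsElementaryAbelian 2 V → V ≤ T → T ≤ normalizer (V : Set G) →
    (∀ R ≤ T, ElemImage R V →
      ((centralizer (V : Set G)).relIndex R) ^ 2 ≤ (centralizer (R : Set G)).relIndex V) →
    T ≤ centralizer (V : Set G)

theorem isE_map {f : G →* K} (hf : Function.Injective f) (T : Subgroup G) :
    IsE (T.map f) ↔ IsE T := by
  constructor
  · intro h V hV hVT hTV hR x hx
    refine (mem_centralizer_map hf).mp (h (V.map f) (isEl_map hV f) (Subgroup.map_mono hVT)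
      ((Subgroup.map_mono hTV).trans (Subgroup.le_normalizer_map f)) (fun R hRT hel => ?_)
      (Subgroup.mem_map_of_mem f hx))
    have e := le_map_of_le hRT
    rw [← e] at hel hRT ⊢
    rw [relIndex_centralizer_map hf, relIndex_centralizer_map hf]
    exact hR _ ((Subgroup.map_le_map_iff_of_injective hf).mp hRT) ((elemImage_map hf).mp hel)
  · intro h V hV hVT hTV hR
    have e := le_map_of_le hVT
    rw [← e] at hV hVT hTV hR ⊢
    rintro _ ⟨x, hx, rfl⟩
    refine (mem_centralizer_map hf).mpr (h (V.comap f) (isEl_of_map hf hV)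
      ((Subgroup.map_le_map_iff_of_injective hf).mp hVT) (fun y hy => ?_) (fun R hRT hel => ?_) hx)
    · rw [Subgroup.mem_normalizer_iff]
      intro z
      have h1 := Subgroup.mem_normalizer_iff.mp (hTV (Subgroup.mem_map_of_mem f hy)) (f z)
      rwa [← map_inv, ← map_mul, ← map_mul, Subgroup.mem_map_iff_mem hf,
        Subgroup.mem_map_iff_mem hf] at h1
    · have h1 := hR (R.map f) (Subgroup.map_mono hRT) ((elemImage_map hf).mpr hel)
      rwa [relIndex_centralizer_map hf, relIndex_centralizer_map hf] at h1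

/-- `Ω₁(Z(S))`. -/
def omegaZ (S : Subgroup G) : Subgroup G where
  carrier := {x | (x ∈ S ∧ x ^ 2 = 1) ∧ ∀ s ∈ S, s * x = x * s}
  one_mem' := ⟨⟨one_mem _, one_pow 2⟩, fun s _ => by rw [mul_one, one_mul]⟩
  mul_mem' := fun {a b} ha hb => ⟨⟨mul_mem ha.1.1 hb.1.1, by
    rw [(show Commute a b from hb.2 a ha.1.1).mul_pow, ha.1.2, hb.1.2, one_mul]⟩,
    fun s hs => ((show Commute s a from ha.2 s hs).mul_right (hb.2 s hs)).eq⟩
  inv_mem' := fun {a} ha => ⟨⟨inv_mem ha.1.1, by rw [inv_pow, ha.1.2, inv_one]⟩,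
    fun s hs => (show Commute s a from ha.2 s hs).inv_right.eq⟩

theorem omegaZ_le (S : Subgroup G) : omegaZ S ≤ S := fun _ hx => hx.1.1

theorem isEl_omegaZ (S : Subgroup G) : Cfsg.IsElementaryAbelian 2 (omegaZ S) :=
  isEl_iff.mpr ⟨fun x hx _ hy => hy.2 x hx.1.1, fun _ hx => hx.1.2⟩

theorem le_centralizer_omegaZ (S : Subgroup G) : S ≤ centralizer (omegaZ S : Set G) :=
  fun s hs => Subgroup.mem_centralizer_iff.mpr fun _ hx => (hx.2 s hs).symm

theorem omegaZ_map {f : G →* K} (hf : Function.Injective f) (S : Subgroup G) :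
    (omegaZ S).map f = omegaZ (S.map f) := by
  refine le_antisymm ?_ ?_
  · rintro _ ⟨x, hx, rfl⟩
    refine ⟨⟨⟨x, hx.1.1, rfl⟩, by rw [← map_pow, hx.1.2, map_one]⟩, ?_⟩
    rintro _ ⟨s, hs, rfl⟩
    rw [← map_mul, ← map_mul, hx.2 s hs]
  · rintro _ ⟨⟨⟨x, hx, rfl⟩, h2⟩, hc⟩
    refine ⟨x, ⟨⟨hx, hf (by rw [map_pow, map_one]; exact h2)⟩, fun s hs => hf ?_⟩, rfl⟩
    rw [map_mul, map_mul]; exact hc _ ⟨s, hs, rfl⟩

theorem omegaZ_ne_bot {S : Subgroup G} (hS : IsPGroup 2 S) (h1 : S ≠ ⊥) : omegaZ S ≠ ⊥ := by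
  haveI : Fact (Nat.Prime 2) := ⟨Nat.prime_two⟩
  haveI : Nontrivial S := (Subgroup.nontrivial_iff_ne_bot S).mpr h1
  haveI := hS.center_nontrivial
  have h2 : 2 ∣ Nat.card (center S) := by
    obtain ⟨n, hn0, hn⟩ := ((hS.to_subgroup (center S)).nontrivial_iff_card).mp inferInstance
    rw [hn]; exact dvd_pow_self 2 hn0.ne'
  obtain ⟨⟨z, hz⟩, hzo⟩ := exists_prime_orderOf_dvd_card' (G := center S) 2 h2
  have hz2 : orderOf (z : G) = 2 := by rw [Subgroup.orderOf_coe]; rwa [Subgroup.orderOf_mk] at hzo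
  intro h
  have : (z : G) ∈ omegaZ S := ⟨⟨z.2, by rw [← hz2, pow_orderOf_eq_one]⟩,
    fun s hs => congrArg Subtype.val (Subgroup.mem_center_iff.mp hz ⟨s, hs⟩)⟩
  rw [h, Subgroup.mem_bot] at this
  rw [this, orderOf_one] at hz2
  norm_num at hz2

/-- `Ĵ(S)`. -/
def jHat (S : Subgroup G) : Subgroup G :=
  sSup {T | T ≤ S ∧ Cfsg.thompsonSubgroupOf 2 S ≤ T ∧ IsE T}

/-- `Ω₁(Z(Ĵ(S)))`. -/
def uHat (S : Subgroup G) : Subgroup G := omegaZ (jHat S)

theorem jHat_le (S : Subgroup G) : jHat S ≤ S := sSup_le fun _ h => h.1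

theorem le_jHat {S T : Subgroup G} (h1 : T ≤ S) (h2 : Cfsg.thompsonSubgroupOf 2 S ≤ T)
    (h3 : IsE T) : T ≤ jHat S := le_sSup ⟨h1, h2, h3⟩

theorem jHat_map {f : G →* K} (hf : Function.Injective f) (S : Subgroup G) :
    (jHat S).map f = jHat (S.map f) := by
  have hJ := JComp.thompson_map f hf S
  refine le_antisymm (Subgroup.map_le_iff_le_comap.mpr (sSup_le fun T hT =>
    Subgroup.map_le_iff_le_comap.mp (le_jHat (Subgroup.map_mono hT.1)
      (hJ ▸ Subgroup.map_mono hT.2.1) ((isE_map hf T).mpr hT.2.2)))) (sSup_le ?_)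
  rintro T ⟨h1, h2, h3⟩
  have e := le_map_of_le h1
  rw [← e] at h1 h2 h3 ⊢
  rw [hJ] at h2
  exact Subgroup.map_mono (le_jHat ((Subgroup.map_le_map_iff_of_injective hf).mp h1)
    ((Subgroup.map_le_map_iff_of_injective hf).mp h2) ((isE_map hf _).mp h3))

theorem uHat_map {f : G →* K} (hf : Function.Injective f) (S : Subgroup G) :
    (uHat S).map f = uHat (S.map f) := by
  rw [uHat, uHat, omegaZ_map hf, jHat_map hf]

/-- The weight inequality for an elementary abelian subgroup of largest order. -/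
theorem weight {S A V : Subgroup G} (hA : IsMaxEl 2 S A) (hVS : V ≤ S)
    (hV : Cfsg.IsElementaryAbelian 2 V) :
    (centralizer (A : Set G)).relIndex V ≤ (centralizer (V : Set G)).relIndex A := by
  set A₁ := A ⊓ centralizer (V : Set G) with hA₁
  have hc : ∀ a ∈ A₁, ∀ v ∈ V, a * v = v * a :=
    fun a ha v hv => (Subgroup.mem_centralizer_iff.mp ha.2 v hv).symm
  have hE := isEl_sup (isEl_mono (isEl_iff.mpr hA.2.1) (inf_le_left : A₁ ≤ A)) hV hc
  have hle : Nat.card ↥(A₁ ⊔ V) ≤ Nat.card A :=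
    hA.2.2 _ (sup_le (inf_le_left.trans hA.1) hVS) (isEl_iff.mp hE)
  have hn : A₁ ≤ normalizer (V : Set G) := inf_le_right.trans (Subgroup.centralizer_le_normalizer _)
  have hprod := Grp.card_sup_mul_card_inf hn
  have e1 : A₁ ⊓ V = centralizer (A : Set G) ⊓ V := by
    refine le_antisymm (fun x hx => ⟨Subgroup.mem_centralizer_iff.mpr fun a ha =>
      hA.2.1.1 a ha x hx.1.1, hx.2⟩) fun x hx => ⟨⟨?_, Subgroup.mem_centralizer_iff.mpr fun v hv =>
      (isEl_iff.mp hV).1 v hv x hx.2⟩, hx.2⟩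
    exact hA.mem_of_commute (hVS hx.2) (hV.2 x hx.2) fun a ha =>
      Subgroup.mem_centralizer_iff.mp hx.1 a ha
  have k1 : Nat.card ↥(centralizer (A : Set G) ⊓ V) * (centralizer (A : Set G)).relIndex V =
      Nat.card V := by
    rw [← Subgroup.inf_relIndex_right, Subgroup.relIndex,
      ← Nat.card_congr (Subgroup.subgroupOfEquivOfLe (inf_le_right :
        centralizer (A : Set G) ⊓ V ≤ V)).toEquiv]
    exact Subgroup.card_mul_index _
  have k2 : Nat.card A₁ * (centralizer (V : Set G)).relIndex A = Nat.card A := by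
    rw [hA₁, inf_comm, ← Subgroup.inf_relIndex_right, Subgroup.relIndex,
      ← Nat.card_congr (Subgroup.subgroupOfEquivOfLe (inf_le_right :
        centralizer (V : Set G) ⊓ A ≤ A)).toEquiv]
    exact Subgroup.card_mul_index _
  rw [e1] at hprod
  have hpos : 0 < Nat.card ↥(centralizer (A : Set G) ⊓ V) * Nat.card A₁ :=
    Nat.mul_pos Nat.card_pos Nat.card_pos
  refine Nat.le_of_mul_le_mul_left (?_ : _ * _ ≤ _) hpos
  calc Nat.card ↥(centralizer (A : Set G) ⊓ V) * Nat.card A₁ *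
        (centralizer (A : Set G)).relIndex V
      = Nat.card A₁ * (Nat.card ↥(centralizer (A : Set G) ⊓ V) *
        (centralizer (A : Set G)).relIndex V) := by ring
    _ = Nat.card ↥(A₁ ⊔ V) * Nat.card ↥(centralizer (A : Set G) ⊓ V) := by rw [k1, hprod]
    _ ≤ Nat.card A * Nat.card ↥(centralizer (A : Set G) ⊓ V) := Nat.mul_le_mul_right _ hle
    _ = _ := by rw [← k2]; ring

theorem sq_le_self_imp {e : ℕ} (h : e ^ 2 ≤ e) : e ≤ 1 := by nlinarith

/-- An elementary abelian subgroup of largest order centralises a subgroup with the squared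
bound. -/
theorem maxEl_centralizes {S A V : Subgroup G} (hA : IsMaxEl 2 S A) (hVS : V ≤ S)
    (hV : Cfsg.IsElementaryAbelian 2 V)
    (hb : ((centralizer (V : Set G)).relIndex A) ^ 2 ≤ (centralizer (A : Set G)).relIndex V) :
    A ≤ centralizer (V : Set G) := by
  have h1 := sq_le_self_imp (hb.trans (weight hA hVS hV))
  exact Subgroup.relIndex_eq_one.mp
    (le_antisymm h1 (Nat.one_le_iff_ne_zero.mpr (relIndex_ne_zero' _ _)))

theorem isE_thompson (S : Subgroup G) : IsE (Cfsg.thompsonSubgroupOf 2 S) := by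
  intro V hV hVJ hJV hR
  refine thompsonEl_le_of fun A hA => maxEl_centralizes hA (hVJ.trans (thompsonEl_le S)) hV ?_
  exact hR A hA.le_thompsonEl (elemImage_of_isEl (isEl_iff.mpr hA.2.1))

theorem thompson_le_jHat (S : Subgroup G) : Cfsg.thompsonSubgroupOf 2 S ≤ jHat S :=
  le_jHat (thompsonEl_le S) le_rfl (isE_thompson S)

theorem uHat_le_maxEl {S A : Subgroup G} (hA : IsMaxEl 2 S A) : uHat S ≤ A := fun x hx =>
  hA.mem_of_commute (jHat_le S hx.1.1) hx.1.2
    fun a ha => hx.2 a (thompson_le_jHat S (hA.le_thompsonEl ha))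

theorem uHat_le_thompson (S : Subgroup G) : uHat S ≤ Cfsg.thompsonSubgroupOf 2 S := by
  obtain ⟨A, hA⟩ := JComp.exists_maxEl S
  exact (uHat_le_maxEl hA).trans hA.le_thompsonEl

theorem omegaZ_le_uHat (S : Subgroup G) : omegaZ S ≤ uHat S := fun x hx => by
  obtain ⟨A, hA⟩ := JComp.exists_maxEl S
  exact ⟨⟨thompson_le_jHat S (hA.le_thompsonEl (hA.mem_of_commute hx.1.1 hx.1.2
    fun a ha => hx.2 a (hA.1 ha))), hx.1.2⟩, fun s hs => hx.2 s (jHat_le S hs)⟩

theorem thompson_ne_bot {S : Subgroup G} (hS : IsPGroup 2 S) (h1 : S ≠ ⊥) :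
    Cfsg.thompsonSubgroupOf 2 S ≠ ⊥ := fun h =>
  omegaZ_ne_bot hS h1 (le_bot_iff.mp (h ▸ (omegaZ_le_uHat S).trans (uHat_le_thompson S)))

theorem jHat_eq_of_between {S R : Subgroup G} (h1 : jHat S ≤ R) (h2 : R ≤ S) :
    jHat R = jHat S := by
  have hJ : Cfsg.thompsonSubgroupOf 2 R = Cfsg.thompsonSubgroupOf 2 S :=
    JComp.thompson_eq_of_between ((thompson_le_jHat S).trans h1) h2
  refine le_antisymm (sSup_le fun T hT => le_jHat (hT.1.trans h2) (hJ ▸ hT.2.1) hT.2.2)
    (sSup_le fun T hT => le_jHat ((le_jHat hT.1 hT.2.1 hT.2.2).trans h1) (hJ ▸ hT.2.1) hT.2.2)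

/-- Equivariant functions of a subgroup are normalised by its normaliser. -/
theorem normalizer_le_of_equivariant (F : Subgroup G → Subgroup G)
    (hF : ∀ (g : G) (S : Subgroup G),
      (F S).map (MulAut.conj g).toMonoidHom = F (S.map (MulAut.conj g).toMonoidHom)) (S : Subgroup G) :
    normalizer (S : Set G) ≤ normalizer (F S : Set G) := fun g hg => by
  rw [Grp.mem_normalizer_iff_smul, ← Grp.map_conj_eq_smul] at hg ⊢
  rw [hF, hg]

theorem normalizer_le_thompson (S : Subgroup G) :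
    normalizer (S : Set G) ≤ normalizer (Cfsg.thompsonSubgroupOf 2 S : Set G) :=
  normalizer_le_of_equivariant _ (fun g S => (JComp.thompson_map (MulAut.conj g).toMonoidHom
    (MulAut.conj g).injective S).symm) S

theorem normalizer_le_jHat (S : Subgroup G) :
    normalizer (S : Set G) ≤ normalizer (jHat S : Set G) :=
  normalizer_le_of_equivariant _ (fun g S => jHat_map (f := (MulAut.conj g).toMonoidHom)
    (MulAut.conj g).injective S) S

theorem normalizer_le_omegaZ (S : Subgroup G) :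
    normalizer (S : Set G) ≤ normalizer (omegaZ S : Set G) :=
  normalizer_le_of_equivariant _ (fun g S => omegaZ_map (f := (MulAut.conj g).toMonoidHom)
    (MulAut.conj g).injective S) S

theorem normalizer_jHat_le (S : Subgroup G) :
    normalizer (jHat S : Set G) ≤ normalizer (uHat S : Set G) := normalizer_le_omegaZ _

/-- In a 2-group, a subgroup generated modulo a normalised subgroup by its commutators with the
group lies in that subgroup. -/
theorem le_of_le_sup_commutator {S V W : Subgroup G} (hS : IsPGroup 2 S) (hVS : V ≤ S)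
    (hV : S ≤ normalizer (V : Set G)) (hWS : W ≤ S) (h : W ≤ V ⊔ ⁅W, S⁆) : W ≤ V := by
  haveI : Fact (Nat.Prime 2) := ⟨Nat.prime_two⟩
  haveI : Group.IsNilpotent S := hS.isNilpotent
  set V' := V.subgroupOf S with hV'
  set W' := W.subgroupOf S with hW'
  haveI : V'.Normal := Subgroup.normal_subgroupOf_of_le_normalizer hV
  have hW : W' ≤ V' ⊔ ⁅W', (⊤ : Subgroup S)⁆ := by
    intro x hx
    have hx' : (x : G) ∈ (V' ⊔ ⁅W', (⊤ : Subgroup S)⁆).map S.subtype := by
      rw [Subgroup.map_sup, Subgroup.map_commutator, hV', hW', Subgroup.map_subgroupOf_eq_of_le hVS,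
        Subgroup.map_subgroupOf_eq_of_le hWS, ← MonoidHom.range_eq_map, Subgroup.range_subtype]
      exact h hx
    exact (Subgroup.mem_map_iff_mem S.subtype_injective).mp hx'
  have hn : ∀ n, W' ≤ V' ⊔ Subgroup.lowerCentralSeries (⊤ : Subgroup S) n := by
    intro n
    induction n with
    | zero => rw [Subgroup.lowerCentralSeries_zero]; exact le_sup_of_le_right le_top
    | succ n ih =>
      refine hW.trans (sup_le le_sup_left ?_)
      set N := V' ⊔ Subgroup.lowerCentralSeries (⊤ : Subgroup S) (n + 1)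
      rw [Subgroup.commutator_le]
      intro x hx y _
      rw [← QuotientGroup.eq_one_iff (N := N), ← QuotientGroup.mk'_apply, map_commutatorElement,
        commutatorElement_eq_one_iff_mul_comm]
      have hsub : V' ⊔ Subgroup.lowerCentralSeries (⊤ : Subgroup S) n ≤
          (center (S ⧸ N)).comap (QuotientGroup.mk' N) := by
        refine sup_le (fun v hv => ?_) (fun v hv => ?_) <;>
          rw [Subgroup.mem_comap, Subgroup.mem_center_iff] <;> intro g <;>
          obtain ⟨g, rfl⟩ := QuotientGroup.mk'_surjective N g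
        · rw [show QuotientGroup.mk' N v = 1 from
            (QuotientGroup.eq_one_iff v).mpr (le_sup_left (a := V') hv), mul_one, one_mul]
        · symm
          rw [← commutatorElement_eq_one_iff_mul_comm, ← map_commutatorElement]
          refine (QuotientGroup.eq_one_iff _).mpr (le_sup_right (a := V') ?_)
          rw [Subgroup.lowerCentralSeries_succ]
          exact Subgroup.commutator_mem_commutator hv (Subgroup.mem_top g)
      exact (Subgroup.mem_center_iff.mp (hsub (ih hx)) _).symm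
  obtain ⟨n, hn'⟩ := (Subgroup.nilpotent_iff_lowerCentralSeries (G := S)).mp
    inferInstance
  intro x hx
  have h1 := hn n (show (⟨x, hWS hx⟩ : S) ∈ W' from hx)
  rw [hn', sup_bot_eq] at h1
  exact h1

end Cfsg.Agent.Block.SFour
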