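import Cfsg.Agent.Lib.Block.SFourFree.Lift
import Cfsg.Agent.Lib.Invol.AbelianSylowFF
import Cfsg.Agent.Lib.Grp.GeneratedFixedPoints
import Cfsg.Agent.Lib.Grp.Solvable
import Cfsg.Agent.Lib.Transfer.Cores

/-!
Elementary abelian 2-groups acting on a module, in a solvable group without an element of order
three inverted by a 2-element: the fixed points have index at least the square of the group.
-/

set_option autoImplicit false
set_option linter.unusedSectionVars false
set_option linter.style.haveILetI false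

namespace Cfsg.Agent.Block.SFour

open Subgroup Cfsg.Agent.Invol
open scoped commutatorElement

universe u

variable {H : Type u} [Group H] [Finite H] {V : Type u} [CommGroup V] [Finite V]

theorem pow_six_of_card_le_four {Q : Type*} [Group Q] [Finite Q] (hc : Nat.card Q ≤ 4) (f : MulAut Q) :
    f ^ 6 = 1 := by
  classical
  have := Fintype.ofFinite Q
  let e : MulAut Q →* Equiv.Perm {q : Q // q ≠ 1} := MonoidHom.mk'
    (fun f => Equiv.Perm.subtypePerm f.toEquiv fun q => not_congr (map_eq_one_iff f f.injective))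
    (fun f g => Equiv.ext fun q => Subtype.ext rfl)
  have he : Function.Injective e := fun f g h => MulEquiv.ext fun q => by
    by_cases hq : q = 1
    · rw [hq, map_one, map_one]
    · exact congrArg Subtype.val (Equiv.congr_fun h ⟨q, hq⟩)
  apply he
  rw [map_pow, map_one, ← orderOf_dvd_iff_pow_eq_one]
  refine (orderOf_dvd_card).trans ?_
  rw [Fintype.card_perm]
  have h3 : Fintype.card {q : Q // q ≠ 1} ≤ 3 := by
    have h1 := Fintype.card_subtype_lt (p := fun q : Q => q ≠ 1) (x := 1) (by simp)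
    rw [Nat.card_eq_fintype_card] at hc
    omega
  exact (Nat.factorial_dvd_factorial h3).trans (by decide)

/-- An inverted element of odd order moving a module forces index at least four. -/
theorem four_le_index {α : H →* MulAut V} (hV : ∀ v : V, v ^ 2 = 1) (hn : NoThree H) {a x : H}
    (ha : a * a = 1) (hx : Odd (orderOf x)) (hinv : a * x * a⁻¹ = x⁻¹) (hne : α x ≠ 1) :
    4 ≤ (fixOf α (zpowers a)).index := by
  by_contra hlt
  push Not at hlt
  set F := fixOf α (zpowers a) with hF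
  have hVp : IsPGroup 2 V := isPGroup_of_inv_two hV
  have hle : F.index ≤ 2 := by
    obtain ⟨k, hk⟩ := (hVp.to_quotient F).exists_card_eq
    rw [← Subgroup.index_eq_card] at hk
    rcases k with _ | _ | k
    · omega
    · omega
    · rw [hk, pow_succ, pow_succ] at hlt
      have := Nat.two_pow_pos k
      omega
  set F' := F.map (α x).toMonoidHom with hF'
  set K := F ⊓ F' with hK
  have hKi : K.index ≤ 4 := by
    refine Subgroup.index_inf_le.trans ?_
    have : F'.index = F.index := by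
      rw [hF']; exact Subgroup.index_map_equiv _ _
    rw [this]
    calc F.index * F.index ≤ 2 * 2 := Nat.mul_le_mul hle hle
      _ = 4 := rfl
  have ha' : a⁻¹ = a := inv_eq_of_mul_eq_one_right ha
  have hx2 : ∀ v ∈ K, α (x ^ 2) v = v := by
    rintro v ⟨hv, w, hw, rfl⟩
    have e : x ^ 2 = (x * a * x⁻¹) * a := by
      have : a * x⁻¹ * a⁻¹ = x := by
        rw [show a * x⁻¹ * a⁻¹ = (a * x * a⁻¹)⁻¹ by group, hinv, inv_inv]
      rw [ha'] at this
      rw [pow_two]
      calc x * x = x * (a * x⁻¹ * a) := by rw [this]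
        _ = _ := by group
    have hv' : α a (α x w) = α x w := hv a (mem_zpowers a)
    show α (x ^ 2) (α x w) = α x w
    rw [e, map_mul, MulAut.mul_apply, hv', map_mul, map_mul, map_inv, MulAut.mul_apply,
      MulAut.mul_apply, MulAut.inv_apply_self, hw a (mem_zpowers a)]
  obtain ⟨j, hj⟩ := hx
  have hx1 : x ^ (2 * (j + 1)) = x := by
    rw [show 2 * (j + 1) = orderOf x + 1 by omega, pow_succ, pow_orderOf_eq_one, one_mul]
  have hfix2 : ∀ (n : ℕ), ∀ v ∈ K, α ((x ^ 2) ^ n) v = v := by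
    intro n v hv
    induction n with
    | zero => simp
    | succ n ih => rw [pow_succ', map_mul, MulAut.mul_apply, ih, hx2 v hv]
  have hxK : ∀ v ∈ K, α x v = v := fun v hv => by
    conv_lhs => rw [← hx1, pow_mul]
    exact hfix2 _ v hv
  -- the action on `V ⧸ K`
  have hKinv : ∀ (h : zpowers x), ∀ v ∈ K, (α.comp (zpowers x).subtype) h v ∈ K := by
    rintro ⟨h, hh⟩ v hv
    obtain ⟨n, hn'⟩ := (mem_powers_iff_mem_zpowers (x := x)).mpr hh
    show α h v ∈ K
    rw [← hn']
    dsimp only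
    clear hn'
    induction n with
    | zero => simpa using hv
    | succ n ih => rw [pow_succ, map_mul, MulAut.mul_apply, hxK v hv]; exact ih
  set γ := quotientAct (α.comp (zpowers x).subtype) K hKinv with hγ
  set g := γ ⟨x, mem_zpowers x⟩ with hg
  have hg6 : g ^ 6 = 1 := pow_six_of_card_le_four (by rw [← Subgroup.index_eq_card]; exact hKi) g
  have hgo : g ^ orderOf x = 1 := by
    rw [hg, ← map_pow, show (⟨x, mem_zpowers x⟩ : zpowers x) ^ orderOf x = 1 from
      Subtype.ext (pow_orderOf_eq_one x), map_one]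
  have hg3 : g ^ 3 = 1 := by
    have h := pow_gcd_eq_one.2 ⟨hgo, hg6⟩
    have hc : (orderOf x).Coprime 2 := Nat.coprime_two_right.2 ⟨j, hj⟩
    rw [show (6 : ℕ) = 2 * 3 from rfl, Nat.Coprime.gcd_mul_left_cancel_right] at h
    · exact orderOf_dvd_iff_pow_eq_one.mp ((orderOf_dvd_of_pow_eq_one h).trans (Nat.gcd_dvd_right _ _))
    · exact hc.symm
  have hx3 : α (x ^ 3) = 1 := by
    refine Invol.eq_one_of_fix_steps hV (k := orderOf x) (Odd.not_two_dvd_nat ⟨j, hj⟩)
      (by rw [← map_pow, ← pow_mul, mul_comm, pow_mul, pow_orderOf_eq_one, one_pow, map_one])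
      (U := K) (fun v hv => ?_) (fun v => ?_)
    · rw [map_pow, pow_succ, pow_two, MulAut.mul_apply, MulAut.mul_apply, hxK v hv, hxK v hv, hxK v hv]
    · have h1 := DFunLike.congr_fun hg3 ((v : V ⧸ K))
      rw [hg, ← map_pow, MulAut.one_apply, hγ, quotientAct_mk, QuotientGroup.eq_iff_div_mem] at h1
      exact h1
  have h3d : 3 ∣ orderOf x := by
    by_contra h
    have hc : (3 : ℕ).Coprime (orderOf x) := (Nat.Prime.coprime_iff_not_dvd (by norm_num)).mpr h
    obtain ⟨m, hm⟩ := exists_pow_eq_self_of_coprime (x := x) hc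
    exact hne (by rw [← hm, map_pow, hx3, one_pow])
  set r := x ^ (orderOf x / 3) with hr
  refine hn ⟨a, r, ⟨1, by simpa [pow_two] using ha⟩, ?_, ?_, ?_⟩
  · rw [hr, ← pow_mul, Nat.div_mul_cancel h3d, pow_orderOf_eq_one]
  · intro h
    have h1 := orderOf_dvd_of_pow_eq_one h
    have h2 : orderOf x / 3 < orderOf x := Nat.div_lt_self (orderOf_pos x) (by norm_num)
    have h4 : 0 < orderOf x / 3 := Nat.div_pos (Nat.le_of_dvd (orderOf_pos x) h3d) (by norm_num)
    exact absurd (Nat.le_of_dvd h4 h1) (not_le.mpr h2)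
  · rw [hr, ← conj_pow, hinv, inv_pow]

/-- The bound, for a group of odd order normalised by the elementary abelian group. -/
theorem dom_core {α : H →* MulAut V} (hV : ∀ v : V, v ^ 2 = 1) (hn : NoThree H) {O : Subgroup H}
    (hO : Odd (Nat.card O)) (hsol : Group.IsSolvable O) :
    ∀ (n : ℕ) (A : Subgroup H), Nat.card A = n → Cfsg.IsElementaryAbelian 2 A →
      A ≤ normalizer (O : Set H) → (∀ a ∈ A, (∀ x ∈ O, α (a * x * a⁻¹) = α x) → α a = 1) →
      (Nat.card (A.map α)) ^ 2 ≤ (fixOf α A).index := by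
  classical
  haveI : Fact (Nat.Prime 2) := ⟨Nat.prime_two⟩
  intro n
  induction n using Nat.strong_induction_on with
  | _ n ih =>
  intro A hn' hA hAO hfaith
  by_cases htriv : A.map α = ⊥
  · rw [htriv, Subgroup.card_bot]
    exact Nat.one_le_iff_ne_zero.mpr Subgroup.index_ne_zero_of_finite
  let T : Subgroup H := O ⊓ ⨅ a : A, (α.comp (MulAut.conj (a : H)).toMonoidHom).eqLocus α
  have hT : ∀ x ∈ O, (x ∈ T ↔ ∀ a ∈ A, α (a * x * a⁻¹) = α x) := fun x hx =>
    ⟨fun h a ha => Subgroup.mem_iInf.mp h.2 ⟨a, ha⟩,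
      fun h => ⟨hx, Subgroup.mem_iInf.mpr fun a => h a a.2⟩⟩
  obtain ⟨D, hDA, hDi, x₁, hx₁, hx₁T⟩ : ∃ D : Subgroup H, D ≤ A ∧ D.relIndex A = 2 ∧
      ∃ x ∈ O ⊓ centralizer (D : Set H), x ∉ T := by
    by_contra hcon
    push Not at hcon
    refine htriv ((Subgroup.map_eq_bot_iff A).mpr fun a ha => ?_)
    have hA1 : A ≠ ⊥ := fun h => htriv (by rw [h, Subgroup.map_bot])
    have hle : O ≤ T := Grp.le_of_hyperplanes hA hA1 O hO.not_two_dvd_nat hAO
      (fun D hD hi x hx => hcon D hD hi x hx)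
    exact hfaith a ha fun x hx => (hT x hx).mp (hle hx) a ha
  rw [hT x₁ hx₁.1] at hx₁T
  push Not at hx₁T
  obtain ⟨a, ha, hax⟩ := hx₁T
  have haD : a ∉ D := fun h => hax (by
    rw [Subgroup.mem_centralizer_iff.mp hx₁.2 a h, mul_inv_cancel_right])
  have haa : a * a = 1 := by rw [← pow_two]; exact hA.2 a ha
  have ha' : a⁻¹ = a := inv_eq_of_mul_eq_one_right haa
  set x := a * x₁ * a⁻¹ * x₁⁻¹ with hx
  have hxinv : a * x * a⁻¹ = x⁻¹ := by
    calc a * x * a⁻¹ = (a * a) * x₁ * (a * a)⁻¹ * (a * x₁ * a⁻¹)⁻¹ := by rw [hx]; group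
      _ = x⁻¹ := by rw [haa, hx]; group
  have hxO : x ∈ O := O.mul_mem (Grp.mem_conj_normalizer (hAO ha) hx₁.1) (O.inv_mem hx₁.1)
  have hxD : ∀ d ∈ D, d * x = x * d := by
    intro d hd
    have h1 : Commute d x₁ := Subgroup.mem_centralizer_iff.mp hx₁.2 d hd
    have h2 : Commute d a := by
      haveI := hA.1
      exact setLike_mul_comm (hDA hd) ha
    exact (((h2.mul_right h1).mul_right h2.inv_right).mul_right h1.inv_right)
  have hxne : α x ≠ 1 := fun h => hax (by
    rw [hx, map_mul, map_inv, mul_inv_eq_one] at h; exact h)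
  have hxodd : Odd (orderOf x) := hO.of_dvd_nat (Subgroup.orderOf_dvd_natCard O hxO)
  -- the bound for the hyperplane
  have hDlt : Nat.card D < n := by
    rw [← hn']
    refine lt_of_le_of_ne (Subgroup.card_le_of_le hDA) fun h => haD ?_
    rw [Subgroup.eq_of_le_of_card_ge hDA h.ge]
    exact ha
  have hDel : Cfsg.IsElementaryAbelian 2 D :=
    ⟨⟨⟨fun u v => Subtype.ext (by haveI := hA.1; exact setLike_mul_comm (hDA u.2) (hDA v.2))⟩⟩,
      fun d hd => hA.2 d (hDA hd)⟩
  have hIH := ih _ hDlt D rfl hDel (hDA.trans hAO) fun d hd h => hfaith d (hDA hd) h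
  have hcard : Nat.card (A.map α) ≤ 2 * Nat.card (D.map α) := by
    rw [← Subgroup.relIndex_ker, ← Subgroup.relIndex_ker, ← Subgroup.inf_relIndex_right α.ker D]
    have h1 : α.ker.relIndex A ∣ (α.ker ⊓ D).relIndex A :=
      Subgroup.relIndex_dvd_of_le_left _ inf_le_left
    rw [← Subgroup.relIndex_mul_relIndex _ D A inf_le_right hDA, hDi] at h1
    rw [mul_comm 2]
    exact Nat.le_of_dvd (Nat.mul_pos (Nat.pos_of_ne_zero (Subgroup.index_ne_zero_of_finite (H := (α.ker ⊓ D).subgroupOf D))) two_pos) h1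
  -- the gain on the fixed points of `D`
  set U := fixOf α D with hU
  set C := centralizer (D : Set H) with hC
  have haC : a ∈ C := Subgroup.mem_centralizer_iff.mpr fun d hd => by
    haveI := hA.1
    exact setLike_mul_comm (hDA hd) ha
  have hxC : x ∈ C := Subgroup.mem_centralizer_iff.mpr hxD
  have hinvU : ∀ h : C, ∀ u ∈ U, (α.comp C.subtype) h u ∈ U := by
    rintro ⟨h, hh⟩ u hu d hd
    show α d (α h u) = α h u
    rw [← MulAut.mul_apply, ← map_mul, Subgroup.mem_centralizer_iff.mp hh d hd, map_mul,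
      MulAut.mul_apply, hu d hd]
  set β := restrictAct (α.comp C.subtype) U hinvU with hβ
  have hβx : β ⟨x, hxC⟩ ≠ 1 := fun h => hxne (by
    refine eq_one_of_fix_centralizer (isPGroup_of_inv_two hV)
      ((isPGroup_of_inv_two (X := D) fun d => Subtype.ext (by
        rw [SubmonoidClass.coe_pow]; exact hA.2 _ (hDA d.2))).map α)
      (Nat.coprime_two_right.2 hxodd) (by rw [← map_pow, pow_orderOf_eq_one, map_one]) ?_ fun v hv => ?_
    · rintro _ ⟨d, hd, rfl⟩
      exact (show Commute d x from hxD d hd).map α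
    · have hvU : v ∈ U := fun d hd => hv _ ⟨d, hd, rfl⟩
      exact congrArg Subtype.val (DFunLike.congr_fun h (⟨v, hvU⟩ : U)))
  have h4 : 4 ≤ (fixOf β (zpowers ⟨a, haC⟩)).index := by
    refine four_le_index (fun u => Subtype.ext (by rw [SubmonoidClass.coe_pow]; exact hV _))
      (hn.subgroup C) (x := ⟨x, hxC⟩) (Subtype.ext haa) ?_ (Subtype.ext hxinv) hβx
    rw [← Subgroup.orderOf_coe]; exact hxodd
  have hle : fixOf α A ≤ U := fixOf_anti hDA
  have h4' : 4 ≤ (fixOf α A).relIndex U := by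
    refine h4.trans (Subgroup.index_antitone (fun u hu => ?_))
    rintro ⟨h, hh⟩ hmem
    obtain ⟨i, hi⟩ := mem_zpowers_iff.mp hmem
    have hhA : h ∈ A := by
      have e := congrArg Subtype.val hi
      rw [SubgroupClass.coe_zpow] at e
      show h ∈ A
      rw [show h = a ^ i from e.symm]
      exact zpow_mem ha i
    exact Subtype.ext (hu h hhA)
  calc (Nat.card (A.map α)) ^ 2 ≤ (2 * Nat.card (D.map α)) ^ 2 := Nat.pow_le_pow_left hcard 2
    _ = 4 * (Nat.card (D.map α)) ^ 2 := by ring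
    _ ≤ (fixOf α A).relIndex U * U.index := Nat.mul_le_mul h4' hIH
    _ = (fixOf α A).index := Subgroup.relIndex_mul_index hle

/-- The bound for an action with a normal subgroup of odd image. -/
theorem dom_range {α : H →* MulAut V} (hV : ∀ v : V, v ^ 2 = 1) (hn : NoThree H)
    (hs : Group.IsSolvable H) {A N : Subgroup H} [N.Normal]
    (hA : Cfsg.IsElementaryAbelian 2 (A.map α)) (hN : Odd (Nat.card (N.map α)))
    (hfaith : ∀ a ∈ A, (∀ x ∈ N, α ⁅a, x⁆ = 1) → α a = 1) :
    (Nat.card (A.map α)) ^ 2 ≤ (fixOf α A).index := by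
  let ρ := α.rangeRestrict
  have hρ : Function.Surjective ρ := α.rangeRestrict_surjective
  haveI := hs
  haveI : Group.IsSolvable α.range := Group.isSolvable_of_surjective hρ
  haveI : (N.map ρ).Normal := (inferInstance : N.Normal).map ρ hρ
  have e0 : α.range.subtype.comp ρ = α := by ext x v; rfl
  have hNodd : Odd (Nat.card (N.map ρ)) := by
    rw [← Subgroup.card_map_of_injective α.range.subtype_injective, Subgroup.map_map, e0]; exact hN
  have hAel : Cfsg.IsElementaryAbelian 2 (A.map ρ) := by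
    refine ⟨⟨⟨fun u v => Subtype.ext (Subtype.ext ?_)⟩⟩, ?_⟩
    · obtain ⟨a, ha, hae⟩ := u.2
      obtain ⟨b, hb, hbe⟩ := v.2
      show ((u : α.range) : MulAut V) * (v : α.range) = (v : α.range) * (u : α.range)
      rw [← hae, ← hbe]
      exact congrArg Subtype.val (hA.1.is_comm.comm ⟨α a, a, ha, rfl⟩ ⟨α b, b, hb, rfl⟩)
    · rintro _ ⟨a, ha, rfl⟩
      exact Subtype.ext (hA.2 (α a) ⟨a, ha, rfl⟩)
  have h := dom_core (α := α.range.subtype) hV (hn.map ρ hρ) hNodd inferInstance _ (A.map ρ) rfl hAel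
    (by rw [Subgroup.normalizer_eq_top]; exact le_top) ?_
  · have e2 : fixOf α.range.subtype (A.map ρ) = fixOf α A := by
      ext v
      exact ⟨fun h a ha => h _ ⟨a, ha, rfl⟩, fun h => by rintro _ ⟨a, ha, rfl⟩; exact h a ha⟩
    rwa [Subgroup.map_map, e0, e2] at h
  · rintro _ ⟨a, ha, rfl⟩ hall
    refine hfaith a ha fun x hx => ?_
    have h1 : α (a * x * a⁻¹) = α x := by
      have h2 : α.range.subtype (ρ a * ρ x * (ρ a)⁻¹) = α.range.subtype (ρ x) :=
        hall (ρ x) ⟨x, hx, rfl⟩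
      rw [← map_inv ρ, ← map_mul ρ, ← map_mul ρ] at h2
      exact h2
    rw [commutatorElement_def, map_mul, h1, map_inv, mul_inv_cancel]

/-- An elementary abelian group acting faithfully on a group of odd order has a regular element. -/
theorem exists_regular {E : Subgroup H} (hE : Odd (Nat.card E)) :
    ∀ (n : ℕ) (A : Subgroup H), Nat.card A = n → Cfsg.IsElementaryAbelian 2 A →
      A ≤ normalizer (E : Set H) → (∀ a ∈ A, (∀ x ∈ E, a * x = x * a) → a = 1) →
      ∃ g ∈ E, ∀ a ∈ A, a * g = g * a → a = 1 := by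
  classical
  haveI : Fact (Nat.Prime 2) := ⟨Nat.prime_two⟩
  intro n
  induction n using Nat.strong_induction_on with
  | _ n ih =>
  intro A hn' hA hAE hfaith
  by_cases hA1 : A = ⊥
  · exact ⟨1, one_mem _, fun a ha _ => by rwa [hA1, Subgroup.mem_bot] at ha⟩
  obtain ⟨D, hDA, hDi, x₀, hx₀, hx₀A⟩ : ∃ D : Subgroup H, D ≤ A ∧ D.relIndex A = 2 ∧
      ∃ x ∈ E ⊓ centralizer (D : Set H), x ∉ centralizer (A : Set H) := by
    by_contra hcon
    push Not at hcon
    have hle : E ≤ centralizer (A : Set H) :=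
      Grp.le_of_hyperplanes hA hA1 E hE.not_two_dvd_nat hAE fun D hD hi x hx => hcon D hD hi x hx
    exact hA1 ((Subgroup.eq_bot_iff_forall A).mpr fun a ha => hfaith a ha fun x hx =>
      Subgroup.mem_centralizer_iff.mp (hle hx) a ha)
  have hsq : ∀ a ∈ A, a⁻¹ = a := fun a ha =>
    inv_eq_of_mul_eq_one_right (by rw [← pow_two]; exact hA.2 a ha)
  have hab : ∀ a ∈ A, ∀ b ∈ A, a * b = b * a := fun a ha b hb =>
    congrArg Subtype.val (hA.1.is_comm.comm ⟨a, ha⟩ ⟨b, hb⟩)
  rw [Subgroup.mem_centralizer_iff] at hx₀A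
  push Not at hx₀A
  obtain ⟨a, ha, hax⟩ := hx₀A
  have haD : a ∉ D := fun h => hax (Subgroup.mem_centralizer_iff.mp hx₀.2 a h)
  set h := a * x₀ * a⁻¹ * x₀⁻¹ with hh
  have hhE : h ∈ E := E.mul_mem (Grp.mem_conj_normalizer (hAE ha) hx₀.1) (E.inv_mem hx₀.1)
  have hah : a * h * a⁻¹ = h⁻¹ := by
    calc a * h * a⁻¹ = (a * a) * x₀ * (a * a)⁻¹ * (a * x₀ * a⁻¹)⁻¹ := by rw [hh]; group
      _ = h⁻¹ := by rw [← pow_two, hA.2 a ha, hh]; group
  have hdh : ∀ d ∈ D, d * h * d⁻¹ = h := by
    intro d hd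
    have h1 : Commute d x₀ := Subgroup.mem_centralizer_iff.mp hx₀.2 d hd
    have h2 : Commute d a := hab d (hDA hd) a ha
    have h3 : Commute d h := (((h2.mul_right h1).mul_right h2.inv_right).mul_right h1.inv_right)
    rw [h3.eq, mul_inv_cancel_right]
  have hh1 : h ≠ 1 := fun e => hax (by
    rw [hh, mul_inv_eq_one, mul_inv_eq_iff_eq_mul] at e; exact e)
  have hh4 : h ^ 4 ≠ 1 := fun e => hh1 (by
    have := pow_gcd_eq_one.2 ⟨e, (orderOf_dvd_iff_pow_eq_one.mp (Subgroup.orderOf_dvd_natCard E hhE))⟩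
    rwa [Nat.Coprime.gcd_eq_one ((Nat.coprime_two_left.mpr hE).pow_left 2), pow_one] at this)
  have hDlt : Nat.card D < n := by
    rw [← hn']
    refine lt_of_le_of_ne (Subgroup.card_le_of_le hDA) fun e => haD ?_
    rw [Subgroup.eq_of_le_of_card_ge hDA e.ge]
    exact ha
  obtain ⟨g, hg, hgreg⟩ := ih _ hDlt D rfl
    ⟨⟨⟨fun u v => Subtype.ext (hab _ (hDA u.2) _ (hDA v.2))⟩⟩, fun d hd => hA.2 d (hDA hd)⟩
    (hDA.trans hAE) fun d hd => hfaith d (hDA hd)
  obtain hsplit : ∀ b ∈ A, b ∈ D ∨ b * a ∈ D := by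
    intro b hb
    have h2 := Subgroup.mul_mem_iff_of_index_two (H := D.subgroupOf A) hDi (a := ⟨b, hb⟩) (b := ⟨a, ha⟩)
    simp only [Subgroup.mem_subgroupOf] at h2
    by_cases hbD : b ∈ D
    · exact Or.inl hbD
    · exact Or.inr (h2.mpr ⟨fun h => absurd h hbD, fun h => absurd h haD⟩)
  by_cases hga : ∃ b ∈ A, b ≠ 1 ∧ b * g = g * b
  swap
  · push Not at hga
    exact ⟨g, hg, fun b hb e => by_contra fun hb1 => hga b hb hb1 e⟩
  obtain ⟨a', ha', ha'1, ha'g⟩ := hga
  have ha'D : a' * a ∈ D := (hsplit a' ha').resolve_left fun e => ha'1 (hgreg a' e ha'g)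
  -- `a'` inverts `h` and centralises `g`
  have ha'h : a' * h * a'⁻¹ = h⁻¹ := by
    calc a' * h * a'⁻¹ = (a' * a) * (a⁻¹ * h * a⁻¹⁻¹) * (a' * a)⁻¹ := by group
      _ = h⁻¹ := by rw [hsq a ha, hah, ← conj_inv, hdh _ ha'D]
  refine ⟨g * h, E.mul_mem hg hhE, fun b hb hbe => ?_⟩
  have hbe' : b * (g * h) * b⁻¹ = g * h := by rw [hbe, mul_inv_cancel_right]
  rcases hsplit b hb with hbD | hbD
  · refine hgreg b hbD (mul_inv_eq_iff_eq_mul.mp ?_)
    have : b * g * b⁻¹ * (b * h * b⁻¹) = g * h := by rw [← hbe']; group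
    rwa [hdh b hbD, mul_left_inj] at this
  · exfalso
    set d := b * a' with hd'
    have hdD : d ∈ D := by
      have : d = (b * a) * (a' * a) := by
        rw [hd', mul_assoc b a, ← mul_assoc a a' a, hab a ha a' ha', mul_assoc a' a a, ← pow_two,
          hA.2 a ha, mul_one]
      rw [this]
      exact D.mul_mem hbD ha'D
    have hb' : b = d * a' := by rw [hd', mul_assoc, ← pow_two, hA.2 a' ha', mul_one]
    have hag : a' * g * a'⁻¹ = g := by rw [ha'g, mul_inv_cancel_right]
    have e1 : d * g * d⁻¹ * h⁻¹ = g * h := by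
      calc d * g * d⁻¹ * h⁻¹ = d * g * d⁻¹ * (d * h * d⁻¹)⁻¹ := by rw [hdh d hdD]
        _ = d * (a' * g * a'⁻¹) * d⁻¹ * (d * (a' * h * a'⁻¹) * d⁻¹) := by
            rw [hag, ha'h]; group
        _ = b * (g * h) * b⁻¹ := by rw [hb']; group
        _ = g * h := hbe'
    have e2 : d * g * d⁻¹ = g * h * h := eq_mul_of_mul_inv_eq e1
    have hd2 : d * d = 1 := by rw [← pow_two]; exact hA.2 d (hDA hdD)
    refine hh4 (mul_left_cancel (a := g) ?_)
    calc g * h ^ 4 = g * h * h * h * h := by simp only [pow_succ, pow_zero, one_mul, mul_assoc]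
      _ = d * g * d⁻¹ * (d * h * d⁻¹) * (d * h * d⁻¹) := by rw [e2, hdh d hdD]
      _ = d * (g * h * h) * d⁻¹ := by group
      _ = d * d * g * (d * d)⁻¹ := by rw [← e2]; group
      _ = g * 1 := by rw [hd2]; group

/-- In a solvable group without normal 2-subgroup the odd core contains its centraliser. -/
theorem centralizer_pPrimeCore_le {L : Type*} [Group L] [Finite L] [Group.IsSolvable L]
    (h : Cfsg.pCore 2 L = ⊥) :
    centralizer (Cfsg.pPrimeCore 2 L : Set L) ≤ Cfsg.pPrimeCore 2 L := by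
  have hF : Cfsg.fittingSubgroup L ≤ Cfsg.pPrimeCore 2 L := by
    rw [Transfer.fittingSubgroup_eq_iSup_pCore]
    refine iSup_le fun q => ?_
    haveI := Fact.mk (Nat.prime_of_mem_primeFactors q.2)
    by_cases hq : (q : ℕ) = 2
    · rw [hq, h]; exact bot_le
    · refine Grp.le_pPrimeCore Grp.pCore_isNormal ?_
      obtain ⟨k, hk⟩ := (Grp.pCore_isPGroup (p := (q : ℕ)) (G := L)).exists_card_eq
      rw [hk]
      exact ((Nat.coprime_primes (Nat.prime_of_mem_primeFactors q.2) Nat.prime_two).mpr hq).pow_left k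
  exact (Subgroup.centralizer_le hF).trans (Grp.centralizer_fittingSubgroup_le.trans hF)

/-- The bound for an action whose image has no nontrivial normal 2-subgroup. -/
theorem dom_act {α : H →* MulAut V} (hV : ∀ v : V, v ^ 2 = 1) (hn : NoThree H)
    (hs : Group.IsSolvable H) {A : Subgroup H} (hA : Cfsg.IsElementaryAbelian 2 (A.map α))
    (hred : Cfsg.pCore 2 α.range = ⊥) :
    (Nat.card (A.map α)) ^ 2 ≤ (fixOf α A).index := by
  haveI := hs
  let ρ := α.rangeRestrict
  have hρ : Function.Surjective ρ := α.rangeRestrict_surjective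
  haveI : Group.IsSolvable α.range := Group.isSolvable_of_surjective hρ
  set P := Cfsg.pPrimeCore 2 α.range
  haveI : P.Normal := Grp.pPrimeCore_isNormal
  haveI : (P.comap ρ).Normal := (inferInstance : P.Normal).comap ρ
  have hodd : Odd (Nat.card P) := Nat.coprime_two_right.mp Grp.pPrimeCore_coprime
  refine dom_range hV hn hs (N := P.comap ρ) hA ?_ fun a ha hall => ?_
  · have e : (P.comap ρ).map α = P.map α.range.subtype := by
      conv_rhs => rw [← Subgroup.map_comap_eq_self_of_surjective hρ P, Subgroup.map_map]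
      congr 1
    rw [e, Subgroup.card_map_of_injective α.range.subtype_injective]; exact hodd
  · have h1 : ρ a ∈ centralizer (P : Set α.range) := by
      refine Subgroup.mem_centralizer_iff.mpr fun y hy => ?_
      obtain ⟨x, rfl⟩ := hρ y
      refine Subtype.ext ?_
      have := hall x hy
      rw [commutatorElement_def, map_mul, map_mul, map_mul, map_inv, map_inv, mul_inv_eq_one,
        mul_inv_eq_iff_eq_mul] at this
      exact this.symm
    have h2 := centralizer_pPrimeCore_le hred h1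
    have h3 : α a ^ 2 = 1 := hA.2 _ ⟨a, ha, rfl⟩
    have h4 : α a ^ Nat.card P = 1 :=
      congrArg (fun z : P => ((z : α.range) : MulAut V)) (pow_card_eq_one' (x := (⟨ρ a, h2⟩ : P)))
    have h5 := pow_gcd_eq_one.2 ⟨h4, h3⟩
    rwa [Nat.Coprime.gcd_eq_one (Nat.coprime_two_right.mpr hodd), pow_one] at h5

end Cfsg.Agent.Block.SFour
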