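import Cfsg.Agent.Lib.Block.SFourFree.SmallCase

/-!
An elementary abelian subgroup with the squared bound lies in `O₂(L)`.
-/

set_option autoImplicit false
set_option linter.unusedSectionVars false
set_option linter.style.haveILetI false

namespace Cfsg.Agent.Block.SFour

open Subgroup Cfsg.Agent.Invol
open scoped Pointwise commutatorElement IsMulCommutative

universe u

variable {L : Type u} [Group L] [Finite L]

theorem pCore_quot_bot [(Cfsg.pCore 2 L).Normal] : Cfsg.pCore 2 (L ⧸ Cfsg.pCore 2 L) = ⊥ := by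
  set Q := Cfsg.pCore 2 L with hQ
  set f := QuotientGroup.mk' Q
  haveI : (Cfsg.pCore 2 (L ⧸ Q)).Normal := Grp.pCore_isNormal
  have hp : IsPGroup 2 ((Cfsg.pCore 2 (L ⧸ Q)).comap f) :=
    Grp.pCore_isPGroup.comap_of_ker_isPGroup f (by rw [QuotientGroup.ker_mk']; exact Grp.pCore_isPGroup)
  rw [Subgroup.eq_bot_iff_forall]
  intro y hy
  obtain ⟨x, rfl⟩ := QuotientGroup.mk'_surjective Q y
  exact (QuotientGroup.eq_one_iff x).mpr
    (Grp.le_pCore ((inferInstance : (Cfsg.pCore 2 (L ⧸ Q)).Normal).comap f) hp hy)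

theorem odd_card_of_pow {G : Type*} [Group G] [Finite G] {m : ℕ} (hm : Odd m)
    (h : ∀ x : G, x ^ m = 1) : Odd (Nat.card G) := by
  rw [← Nat.not_even_iff_odd]
  intro he
  haveI : Fact (Nat.Prime 2) := ⟨Nat.prime_two⟩
  obtain ⟨x, hx⟩ := exists_prime_orderOf_dvd_card' (G := G) 2 he.two_dvd
  exact hm.not_two_dvd_nat (hx ▸ orderOf_dvd_of_pow_eq_one (h x))

theorem eq_one_of_two_odd {G : Type*} [Group G] {e : G} {k m : ℕ} (hm : Odd m)
    (h2 : e ^ 2 ^ k = 1) (h : e ^ m = 1) : e = 1 := by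
  have h4 := pow_gcd_eq_one.2 ⟨h2, h⟩
  rwa [Nat.Coprime.gcd_eq_one ((Nat.coprime_two_left.mpr hm).pow_left k), pow_one] at h4

/-- An element of odd order stabilising a commuting step fixes it. -/
theorem eq_one_of_step {G : Type*} [Group G] {y w e : G} {k : ℕ} (hy : Odd (orderOf y))
    (hye : y * e = e * y) (h : y * w * y⁻¹ = e * w) (h2 : e ^ 2 ^ k = 1) : e = 1 := by
  have hn : ∀ n : ℕ, y ^ n * w * (y ^ n)⁻¹ = e ^ n * w := by
    intro n
    induction n with
    | zero => simp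
    | succ n ih =>
      calc y ^ (n + 1) * w * (y ^ (n + 1))⁻¹ = y * (y ^ n * w * (y ^ n)⁻¹) * y⁻¹ := by
            rw [pow_succ']; group
        _ = y * (e ^ n * w) * y⁻¹ := by rw [ih]
        _ = (y * e ^ n * y⁻¹) * (y * w * y⁻¹) := by group
        _ = e ^ n * (e * w) := by
            rw [h, ((show Commute y e from hye).pow_right n).eq, mul_inv_cancel_right]
        _ = e ^ (n + 1) * w := by rw [pow_succ, mul_assoc]
  have h1 := hn (orderOf y)
  rw [pow_orderOf_eq_one, inv_one, one_mul, mul_one] at h1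
  exact eq_one_of_two_odd hy h2 (mul_eq_right.mp h1.symm)

variable {S : Sylow 2 L} {M : Subgroup L}

set_option maxHeartbeats 1600000 in
/-- There is no such subgroup outside `O₂(L)`. -/
theorem Min.large_case (h : Min S M) {V : Subgroup L} (hV : Cfsg.IsElementaryAbelian 2 V)
    (hVT : V ≤ bigE S) (hTV : bigE S ≤ normalizer (V : Set L))
    (hR : ∀ R ≤ qZero S, ElemImage R V →
      ((centralizer (V : Set L)).relIndex R) ^ 2 ≤ (centralizer (R : Set L)).relIndex V) :
    V ≤ Cfsg.pCore 2 L := by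
  classical
  by_contra hVQ
  haveI : Fact (Nat.Prime 2) := ⟨Nat.prime_two⟩
  haveI := h.loc.solv
  set Q := Cfsg.pCore 2 L with hQ
  haveI hQn : Q.Normal := Grp.pCore_isNormal
  have hQp : IsPGroup 2 Q := Grp.pCore_isPGroup
  set f := QuotientGroup.mk' Q with hf
  set Eb := Cfsg.pPrimeCore 2 (L ⧸ Q) with hEb
  haveI hEbn : Eb.Normal := Grp.pPrimeCore_isNormal
  have hodd : Odd (Nat.card Eb) := Nat.coprime_two_right.mp Grp.pPrimeCore_coprime
  have hmem : ∀ x, f x = 1 ↔ x ∈ Q := fun x => QuotientGroup.eq_one_iff x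
  have hfaith : ∀ a ∈ V.map f, (∀ x ∈ Eb, a * x = x * a) → a = 1 := by
    rintro _ ⟨v, hv, rfl⟩ hall
    have h1 := centralizer_pPrimeCore_le (L := L ⧸ Q) pCore_quot_bot
      (Subgroup.mem_centralizer_iff.mpr fun x hx => (hall x hx).symm)
    exact eq_one_of_two_odd hodd (k := 1) (by rw [pow_one, ← map_pow, hV.2 v hv, map_one])
      (congrArg Subtype.val (pow_card_eq_one' (x := (⟨f v, h1⟩ : Eb))))
  obtain ⟨gb, hgE, hgreg⟩ := exists_regular hodd _ (V.map f) rfl (isEl_map hV f)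
    (by rw [Subgroup.normalizer_eq_top]; exact le_top) hfaith
  obtain ⟨g, rfl⟩ := QuotientGroup.mk'_surjective Q gb
  set V' := V.map (MulAut.conj g).toMonoidHom with hV'
  have hinj : Function.Injective (MulAut.conj g).toMonoidHom := (MulAut.conj g).injective
  have hV'el : Cfsg.IsElementaryAbelian 2 V' := isEl_map hV _
  set V₀ := V ⊓ Q with hV₀
  set V₀' := V' ⊓ Q with hV₀'
  have hV₀Q : V₀ ≤ qZero S := (inf_le_inf_right Q hVT).trans (bigE_inf_le S)
  have hV₀'e : V₀.map (MulAut.conj g).toMonoidHom = V₀' := by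
    rw [hV₀, Subgroup.map_inf _ _ _ hinj, hV₀', hV']
    congr 1
    refine le_antisymm ?_ fun q hq => ⟨g⁻¹ * q * g⁻¹⁻¹, hQn.conj_mem q hq g⁻¹, by simp [mul_assoc]⟩
    rintro _ ⟨q, hq, rfl⟩
    exact hQn.conj_mem q hq g
  have hV₀'Q : V₀' ≤ qZero S := by
    rw [← hV₀'e]
    rintro _ ⟨x, hx, rfl⟩
    exact (qZero_normal S).conj_mem x (hV₀Q hx) g
  have hNV : qZero S ≤ normalizer (V : Set L) := le_trans le_sup_right hTV
  have hNV' : qZero S ≤ normalizer (V' : Set L) := by
    intro q hq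
    have h1 : q ∈ (normalizer (V : Set L)).map (MulAut.conj g).toMonoidHom :=
      ⟨g⁻¹ * q * g⁻¹⁻¹, hNV ((qZero_normal S).conj_mem q hq g⁻¹), by simp [mul_assoc]⟩
    exact Subgroup.le_normalizer_map _ h1
  have hR' : ∀ R ≤ qZero S, ElemImage R V' →
      ((centralizer (V' : Set L)).relIndex R) ^ 2 ≤ (centralizer (R : Set L)).relIndex V' := by
    intro R hRQ hel
    have hR' : R = (R.map (MulAut.conj g⁻¹).toMonoidHom).map (MulAut.conj g).toMonoidHom := by
      rw [Subgroup.map_map]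
      ext x
      simp [mul_assoc]
    set R' := R.map (MulAut.conj g⁻¹).toMonoidHom with hR'def
    have hR'Q : R' ≤ qZero S := by
      rintro _ ⟨r, hr, rfl⟩
      exact (qZero_normal S).conj_mem r (hRQ hr) g⁻¹
    rw [hR', hV', elemImage_map hinj] at hel
    rw [hR', hV', relIndex_centralizer_map hinj, relIndex_centralizer_map hinj]
    exact hR R' hR'Q hel
  set Hs := V ⊔ V' with hHs
  have hVH : V ≤ Hs := le_sup_left
  have hV'H : V' ≤ Hs := le_sup_right
  have hHN0 : Hs ≤ jClosure S := sup_le (hVT.trans (bigE_le_jClosure S)) (by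
    rintro _ ⟨v, hv, rfl⟩
    exact (jClosure_normal S).conj_mem v (bigE_le_jClosure S (hVT hv)) g)
  set Y₂ := V₀ ⊔ V₀' with hY₂
  have hV₀Y : V₀ ≤ Y₂ := le_sup_left
  have hV₀'Y : V₀' ≤ Y₂ := le_sup_right
  have hcomm_mem : ∀ {U : Subgroup L}, qZero S ≤ normalizer (U : Set L) →
      ∀ q ∈ qZero S, ∀ u ∈ U, ⁅q, u⁆ ∈ U ⊓ Q := by
    intro U hU q hq u hu
    refine ⟨?_, ?_⟩
    · rw [commutatorElement_def]
      exact U.mul_mem (Grp.mem_conj_normalizer (hU hq) hu) (U.inv_mem hu)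
    · exact Subgroup.commutator_le_left Q ⊤ (Subgroup.commutator_mem_commutator hq.1 (mem_top u))
  have hconj : ∀ h ∈ Hs, ∀ w ∈ Y₂, h * w * h⁻¹ ∈ Y₂ := by
    have key : ∀ {U U₀ : Subgroup L}, Cfsg.IsElementaryAbelian 2 U → qZero S ≤ normalizer (U : Set L) →
        U ⊓ Q = U₀ → ∀ {U₁ : Subgroup L}, U₁ ≤ qZero S → ∀ u ∈ U, ∀ w ∈ U₀ ⊔ U₁,
        u * w * u⁻¹ ∈ U₀ ⊔ U₁ := by
      intro U U₀ hU hNU e U₁ hU₁ u hu w hw
      have h1 : U₀ ⊔ U₁ ≤ (U₀ ⊔ U₁).comap (MulAut.conj u).toMonoidHom := by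
        refine sup_le (fun x hx => ?_) (fun x hx => ?_) <;>
          show u * x * u⁻¹ ∈ U₀ ⊔ U₁
        · rw [(isEl_iff.mp hU).1 u hu x (e.symm ▸ hx : x ∈ U ⊓ Q).1, mul_inv_cancel_right]
          exact le_sup_left (b := U₁) hx
        · have h2 := hcomm_mem hNU x (hU₁ hx) u hu
          rw [e] at h2
          rw [show u * x * u⁻¹ = ⁅x, u⁆⁻¹ * x by simp only [commutatorElement_def]; group]
          exact mul_mem (inv_mem (le_sup_left (b := U₁) h2)) (le_sup_right (a := U₀) hx)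
      exact h1 hw
    intro h₁ hh₁
    rw [hHs, ← Subgroup.closure_eq V, ← Subgroup.closure_eq V', ← Subgroup.closure_union] at hh₁
    induction hh₁ using Subgroup.closure_induction with
    | mem y hy =>
      intro w hw
      rcases hy with hy | hy
      · exact key hV hNV rfl hV₀'Q y hy w hw
      · rw [hY₂, sup_comm] at hw ⊢
        exact key hV'el hNV' rfl hV₀Q y hy w hw
    | one => intro w hw; simpa using hw
    | mul a b _ _ iha ihb =>
      intro w hw
      rw [show a * b * w * (a * b)⁻¹ = a * (b * w * b⁻¹) * a⁻¹ by group]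
      exact iha _ (ihb w hw)
    | inv a _ iha =>
      intro w hw
      have h1 : Y₂.map (MulAut.conj a).toMonoidHom = Y₂ :=
        Subgroup.eq_of_le_of_card_ge (by rintro _ ⟨x, hx, rfl⟩; exact iha x hx)
          (Subgroup.card_map_of_injective (f := (MulAut.conj a).toMonoidHom) (MulAut.conj a).injective).ge
      obtain ⟨x, hx, hxe⟩ := h1.symm ▸ hw
      rw [← hxe]
      simpa [mul_assoc] using hx
  -- commutators of `Q₀` with `H`
  have hQH : ∀ h ∈ Hs, ∀ q ∈ qZero S, ⁅q, h⁆ ∈ Y₂ := by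
    intro h₁ hh₁
    rw [hHs, ← Subgroup.closure_eq V, ← Subgroup.closure_eq V', ← Subgroup.closure_union] at hh₁
    induction hh₁ using Subgroup.closure_induction with
    | mem y hy =>
      intro q hq
      rcases hy with hy | hy
      · exact hV₀Y (hcomm_mem hNV q hq y hy)
      · exact hV₀'Y (hcomm_mem hNV' q hq y hy)
    | one => intro q _; simp
    | mul a b ha hb iha ihb =>
      intro q hq
      rw [show ⁅q, a * b⁆ = ⁅q, a⁆ * (a * ⁅q, b⁆ * a⁻¹) by simp only [commutatorElement_def]; group]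
      refine mul_mem (iha q hq) (hconj a ?_ _ (ihb q hq))
      rwa [hHs, ← Subgroup.closure_eq V, ← Subgroup.closure_eq V', ← Subgroup.closure_union]
    | inv a ha iha =>
      intro q hq
      rw [show ⁅q, a⁻¹⁆ = a⁻¹ * ⁅q, a⁆⁻¹ * a⁻¹⁻¹ by simp only [commutatorElement_def]; group]
      refine hconj a⁻¹ ?_ _ (inv_mem (iha q hq))
      rw [hHs, ← Subgroup.closure_eq V, ← Subgroup.closure_eq V', ← Subgroup.closure_union]
      exact inv_mem ha
  -- the central part
  set CH := centralizer (Hs : Set L) with hCH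
  set E₂ := (V₀ ⊓ CH) ⊔ (V₀' ⊓ CH) with hE₂
  have hE₂C : E₂ ≤ CH := sup_le inf_le_right inf_le_right
  have hE₂Y : E₂ ≤ Y₂ := sup_le_sup inf_le_left inf_le_left
  have hE₂el : Cfsg.IsElementaryAbelian 2 E₂ :=
    isEl_sup (isEl_mono hV (inf_le_left.trans inf_le_left))
      (isEl_mono hV'el (inf_le_left.trans inf_le_left))
      fun a ha b hb => (Subgroup.mem_centralizer_iff.mp ha.2 b (hV'H hb.1.1)).symm
  have hY₂Q : Y₂ ≤ Q := sup_le inf_le_right inf_le_right
  have hY₂H : Y₂ ≤ Hs := sup_le (inf_le_left.trans hVH) (inf_le_left.trans hV'H)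
  haveI hEn : (E₂.subgroupOf Hs).Normal := ⟨fun x hx k => by
    rw [Subgroup.mem_subgroupOf] at hx ⊢
    show (k : L) * x * (k : L)⁻¹ ∈ E₂
    rw [Subgroup.mem_centralizer_iff.mp (hE₂C hx) k k.2, mul_inv_cancel_right]
    exact hx⟩
  set π := QuotientGroup.mk' (E₂.subgroupOf Hs) with hπ
  have hπ1 : ∀ x : Hs, π x = 1 ↔ (x : L) ∈ E₂ := fun x => QuotientGroup.eq_one_iff x
  set Yb := (Y₂.subgroupOf Hs).map π with hYb
  haveI : (Y₂.subgroupOf Hs).Normal := ⟨fun x hx k => hconj k k.2 x hx⟩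
  haveI : Yb.Normal := (inferInstance : (Y₂.subgroupOf Hs).Normal).map π (QuotientGroup.mk'_surjective _)
  have hYbel : Cfsg.IsElementaryAbelian 2 Yb := by
    have hsplit : Yb = (V₀.subgroupOf Hs).map π ⊔ (V₀'.subgroupOf Hs).map π := by
      rw [hYb, hY₂, ← Subgroup.map_sup,
        Subgroup.subgroupOf_sup (inf_le_left.trans hVH) (inf_le_left.trans hV'H)]
    rw [hsplit]
    refine isEl_sup (isEl_map ?_ π) (isEl_map ?_ π) ?_
    · exact isEl_of_map Hs.subtype_injective
        (isEl_mono hV (le_trans (Subgroup.map_comap_le _ _) inf_le_left))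
    · exact isEl_of_map Hs.subtype_injective
        (isEl_mono hV'el (le_trans (Subgroup.map_comap_le _ _) inf_le_left))
    · rintro _ ⟨a, ha, rfl⟩ _ ⟨b, hb, rfl⟩
      rw [← commutatorElement_eq_one_iff_mul_comm, ← map_commutatorElement, hπ1]
      refine le_sup_left (b := V₀' ⊓ CH) ?_
      replace ha : (a : L) ∈ V₀ := ha
      replace hb : (b : L) ∈ V₀' := hb
      have h1 : ⁅(a : L), (b : L)⁆ ∈ V' ⊓ Q := hcomm_mem hNV' a (hV₀Q ha) b hb.1
      have h2 : ⁅(b : L), (a : L)⁆ ∈ V ⊓ Q := hcomm_mem hNV b (hV₀'Q hb) a ha.1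
      rw [← commutatorElement_inv] at h2
      have h3 : ⁅(a : L), (b : L)⁆ ∈ V₀ := by
        have h4 := (V ⊓ Q).inv_mem h2
        rw [inv_inv] at h4
        exact h4
      refine ⟨h3, Subgroup.mem_centralizer_iff.mpr fun k hk => ?_⟩
      have : Hs ≤ centralizer ({⁅(a : L), (b : L)⁆} : Set L) := sup_le
        (fun v hv => Subgroup.mem_centralizer_singleton_iff.mpr ((isEl_iff.mp hV).1 v hv _ h3.1))
        (fun v hv => Subgroup.mem_centralizer_singleton_iff.mpr ((isEl_iff.mp hV'el).1 v hv _ h1.1))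
      exact Subgroup.mem_centralizer_singleton_iff.mp (this hk)
  haveI := hYbel.1
  set α : Hs →* MulAut Yb := (MulAut.conjNormal : _ →* MulAut Yb).comp π with hα
  have hX2 : ∀ v : Yb, v ^ 2 = 1 := fun v =>
    Subtype.ext (by rw [SubmonoidClass.coe_pow]; exact hYbel.2 v v.2)
  have hαker : ∀ x : Hs, (x : L) ∈ Y₂ → α x = 1 := fun x hx =>
    mem_centralizer_iff_conjNormal.mpr (Subgroup.mem_centralizer_iff.mpr fun w hw =>
      (isEl_iff.mp hYbel).1 w hw (π x) ⟨x, hx, rfl⟩)
  set QH := Q.subgroupOf Hs with hQH'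
  haveI : QH.Normal := hQn.subgroupOf Hs
  set U := fixOf α QH with hUdef
  have hU : ∀ k : Hs, ∀ u ∈ U, α k u ∈ U := fun k u hu q hq => by
    have := hu _ ((inferInstance : QH.Normal).conj_mem q hq k⁻¹)
    rw [inv_inv, map_mul, map_mul, MulAut.mul_apply, MulAut.mul_apply, map_inv] at this
    conv_rhs => rw [← this, MulAut.apply_inv_self]
  set β := restrictAct α U hU with hβ
  have hQker : ∀ x : Hs, (x : L) ∈ Q → β x = 1 := fun x hx =>
    MulEquiv.ext fun u => Subtype.ext (u.2 x hx)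
  set N := ((Eb.comap f).subgroupOf Hs) with hN
  haveI : N.Normal := (hEbn.comap f).subgroupOf Hs
  have hHsQ₀ : ∀ x : Hs, (x : L) ∈ Q → (x : L) ∈ qZero S := fun x hx => ⟨hx, hHN0 x.2⟩
  have hNQ : ∀ x ∈ N, β x = 1 → (x : L) ∈ Q := by
    intro x hxN hx1
    obtain ⟨k, hk⟩ := Invol.exists_pow_coprime (p := 2) (x : L)
    set y := x ^ 2 ^ k with hy
    have hyo : Odd (orderOf (y : L)) := by
      rw [hy, SubmonoidClass.coe_pow]; exact Nat.coprime_two_right.mp hk
    have hyo' : Odd (orderOf y) := by rwa [← Subgroup.orderOf_coe]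
    have hβy : β y = 1 := by rw [hy, map_pow, hx1, one_pow]
    have hαy : α y = 1 := by
      refine eq_one_of_fix_centralizer (isPGroup_of_inv_two hX2) (P := QH.map α)
        ((hQp.comap_subtype).map α) (Nat.coprime_two_right.mpr hyo')
        (by rw [← map_pow, pow_orderOf_eq_one, map_one]) ?_ fun v hv => ?_
      · rintro _ ⟨q, hq, rfl⟩
        show α q * α y = α y * α q
        rw [← commutatorElement_eq_one_iff_mul_comm, ← map_commutatorElement]
        exact hαker _ (hQH y y.2 q (hHsQ₀ q hq))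
      · have hvU : v ∈ U := fun q hq => hv _ ⟨q, hq, rfl⟩
        exact congrArg Subtype.val (DFunLike.congr_fun hβy (⟨v, hvU⟩ : U))
    have hyY : ∀ w ∈ Y₂, (y : L) * w = w * y := by
      intro w hw
      have h1 := Subgroup.mem_centralizer_iff.mp (mem_centralizer_iff_conjNormal.mp hαy)
        (π ⟨w, hY₂H hw⟩) ⟨⟨w, hY₂H hw⟩, hw, rfl⟩
      replace h1 : π ⟨w, hY₂H hw⟩ * π y = π y * π ⟨w, hY₂H hw⟩ := h1
      rw [← commutatorElement_eq_one_iff_mul_comm, ← map_commutatorElement, hπ1] at h1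
      have h2 : ⁅(y : L), w⁆ ∈ E₂ := by rw [← commutatorElement_inv]; exact inv_mem h1
      refine commutatorElement_eq_one_iff_mul_comm.mp (eq_one_of_step (k := 1) (w := w) hyo ?_ ?_ ?_)
      · exact Subgroup.mem_centralizer_iff.mp (hE₂C h2) y y.2
      · rw [commutatorElement_def]; group
      · rw [pow_one]; exact hE₂el.2 _ h2
    have hyQ₀ : (y : L) ∈ centralizer (qZero S : Set L) := Subgroup.mem_centralizer_iff.mpr fun q hq => by
      have h1 := hQH y y.2 q hq
      have h2 : ⁅(y : L), q⁆ ∈ Y₂ := by rw [← commutatorElement_inv]; exact inv_mem h1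
      obtain ⟨j, hj⟩ := hQp ⟨_, hY₂Q h2⟩
      exact (commutatorElement_eq_one_iff_mul_comm.mp (eq_one_of_step (k := j) (w := q) hyo
        (hyY _ h2) (by rw [commutatorElement_def]; group) (congrArg Subtype.val hj))).symm
    have hyQ : (y : L) ∈ Q :=
      h.centralizer_moved_le (Subgroup.centralizer_le h.moved_le_qZero hyQ₀)
    obtain ⟨j, hj⟩ := hQp ⟨_, hyQ⟩
    have hy1 : (y : L) = 1 :=
      eq_one_of_two_odd hyo (congrArg Subtype.val hj) (pow_orderOf_eq_one _)
    rw [hy, SubmonoidClass.coe_pow] at hy1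
    rw [← hmem]
    exact eq_one_of_two_odd hodd (k := k) (by rw [← map_pow, hy1, map_one])
      (congrArg Subtype.val (pow_card_eq_one' (x := (⟨f (x : L), hxN⟩ : Eb))))
  have hNodd : Odd (Nat.card (N.map β)) := odd_card_of_pow hodd fun z => by
    obtain ⟨x, hx, hxe⟩ := z.2
    refine Subtype.ext ?_
    rw [SubmonoidClass.coe_pow, ← hxe, ← map_pow, OneMemClass.coe_one]
    refine hQker _ ((hmem _).mp ?_)
    rw [SubmonoidClass.coe_pow, map_pow]
    exact congrArg Subtype.val (pow_card_eq_one' (x := (⟨f (x : L), hx⟩ : Eb)))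
  set A' := V.subgroupOf Hs with hA'
  have hfaith2 : ∀ a ∈ A', (∀ x ∈ N, β ⁅a, x⁆ = 1) → (a : L) ∈ Q := by
    intro a ha hall
    rw [hA', Subgroup.mem_subgroupOf] at ha
    set x0 := g * (a : L) * g⁻¹ * (a : L)⁻¹ with hx0
    have hx0H : x0 ∈ Hs := mul_mem (hV'H ⟨a, ha, rfl⟩) (inv_mem (hVH ha))
    have hx0E : f x0 ∈ Eb := by
      have e : f x0 = f g * (f a * (f g)⁻¹ * (f a)⁻¹) := by
        rw [hx0]; simp only [map_mul, map_inv, mul_assoc]
      rw [e]
      exact mul_mem hgE (hEbn.conj_mem _ (inv_mem hgE) _)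
    have hc : ⁅a, (⟨x0, hx0H⟩ : Hs)⁆ ∈ N := by
      rw [commutatorElement_def]
      exact mul_mem ((inferInstance : N.Normal).conj_mem _ (show (⟨x0, hx0H⟩ : Hs) ∈ N from hx0E) a)
        (inv_mem (show (⟨x0, hx0H⟩ : Hs) ∈ N from hx0E))
    have h1 := hNQ _ hc (hall _ hx0E)
    have h1' : f ⁅(a : L), x0⁆ = 1 := (hmem _).mpr h1
    rw [map_commutatorElement, commutatorElement_eq_one_iff_mul_comm] at h1'
    have hfa : f (a : L) * f (a : L) = 1 := by rw [← map_mul, ← pow_two, hV.2 _ ha, map_one]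
    have hia : (f (a : L))⁻¹ = f (a : L) := inv_eq_of_mul_eq_one_right hfa
    have h2 : f x0 ^ 2 = 1 := by
      have h3 : f (a : L) * f x0 * (f (a : L))⁻¹ = (f x0)⁻¹ := by
        rw [hx0]
        simp only [map_mul, map_inv, mul_inv_rev, inv_inv, hia]
        calc f (a : L) * (f g * f (a : L) * (f g)⁻¹ * f (a : L)) * f (a : L)
            = f (a : L) * (f g * f (a : L) * (f g)⁻¹) * (f (a : L) * f (a : L)) := by group
          _ = _ := by rw [hfa, mul_one]; simp only [mul_assoc]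
      rw [h1', mul_inv_cancel_right] at h3
      rw [pow_two]
      conv_lhs => arg 2; rw [h3]
      exact mul_inv_cancel _
    have h4 := eq_one_of_two_odd hodd (k := 1) (by rw [pow_one]; exact h2)
      (congrArg Subtype.val (pow_card_eq_one' (x := (⟨f x0, hx0E⟩ : Eb))))
    replace h4 : f (g * (a : L) * g⁻¹ * (a : L)⁻¹) = 1 := h4
    rw [map_mul, map_mul, map_mul, map_inv, map_inv, mul_inv_eq_one, mul_inv_eq_iff_eq_mul] at h4
    exact (hmem _).mp (hgreg _ ⟨a, ha, rfl⟩ h4.symm)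
  have hA'el : Cfsg.IsElementaryAbelian 2 A' :=
    isEl_of_map Hs.subtype_injective (isEl_mono hV (Subgroup.map_comap_le _ _))
  have hdom := dom_range (α := β) (fun u => Subtype.ext (by rw [SubmonoidClass.coe_pow]; exact hX2 _))
    ((h.loc.noThree).subgroup Hs) inferInstance (A := A') (N := N) (isEl_map hA'el β) hNodd
    fun a ha hall => hQker a (hfaith2 a ha hall)
  set e := Q.relIndex V with he
  have hcard : Nat.card (A'.map β) = e := by
    rw [← Subgroup.relIndex_ker, ← Subgroup.inf_relIndex_right]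
    have h1 : β.ker ⊓ A' = QH ⊓ A' := le_antisymm
      (le_inf (fun a ha => hfaith2 a ha.2 fun x _ => by
        rw [map_commutatorElement, MonoidHom.mem_ker.mp ha.1, commutatorElement_one_left])
        inf_le_right)
      (inf_le_inf_right _ fun q hq => MonoidHom.mem_ker.mpr (hQker q hq))
    rw [h1, Subgroup.inf_relIndex_right, hQH', hA', he,
      ← Subgroup.relIndex_map_map_of_injective _ _ Hs.subtype_injective,
      Subgroup.subgroupOf_map_subtype, Subgroup.subgroupOf_map_subtype, inf_eq_left.mpr hVH,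
      ← Subgroup.inf_relIndex_right (Q ⊓ Hs) V, inf_assoc, inf_eq_right.mpr hVH,
      Subgroup.inf_relIndex_right]
  set j := CH.relIndex V₀' with hj
  set j' := CH.relIndex V₀ with hj'
  have hfix : (fixOf β A').index ≤ j := by
    rw [hβ, index_restrictAct]
    set F := fixOf α A' with hF
    refine le_trans (?_ : F.relIndex U ≤ F.index) ?_
    · rw [← Subgroup.relIndex_top_right]
      exact Subgroup.relIndex_le_of_le_right le_top (relIndex_ne_zero' _ _)
    -- the homomorphism from `V₀'`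
    let ψ : (V₀'.subgroupOf Hs) →* Yb :=
      ((π.comp (V₀'.subgroupOf Hs).subtype)).codRestrict Yb fun x => ⟨x, hV₀'Y x.2, rfl⟩
    have hgen : ψ.range ⊔ F = ⊤ := by
      rw [eq_top_iff]
      rintro ⟨w, hw⟩ -
      obtain ⟨x, hx, rfl⟩ := hw
      replace hx : (x : L) ∈ V₀ ⊔ V₀' := hx
      have hx' : x ∈ V₀.subgroupOf Hs ⊔ V₀'.subgroupOf Hs := by
        rw [← Subgroup.subgroupOf_sup (inf_le_left.trans hVH) (inf_le_left.trans hV'H)]
        exact hx
      rw [← Subgroup.closure_eq (V₀.subgroupOf Hs), ← Subgroup.closure_eq (V₀'.subgroupOf Hs),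
        ← Subgroup.closure_union] at hx'
      clear hx
      suffices ∀ hw, (⟨π x, hw⟩ : Yb) ∈ ψ.range ⊔ F from this _
      induction hx' using Subgroup.closure_induction with
      | mem z hz =>
        intro hw
        rcases hz with hz | hz
        · refine le_sup_right (a := ψ.range) fun a ha => Subtype.ext ?_
          show (MulAut.conjNormal (π a) ⟨π z, hw⟩ : Yb).1 = π z
          rw [MulAut.conjNormal_apply]
          show π a * π z * (π a)⁻¹ = π z
          rw [← map_inv, ← map_mul, ← map_mul]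
          congr 1
          rw [show a * z = z * a from
            Subtype.ext ((isEl_iff.mp hV).1 a ha z (Subgroup.mem_subgroupOf.mp hz).1), mul_inv_cancel_right]
        · exact le_sup_left (b := F) ⟨⟨z, hz⟩, rfl⟩
      | one => intro hw; convert one_mem (ψ.range ⊔ F); exact map_one π
      | mul a b ha hb iha ihb =>
        intro hw
        have hle : closure ((V₀.subgroupOf Hs : Set Hs) ∪ (V₀'.subgroupOf Hs : Set Hs)) ≤ Y₂.subgroupOf Hs := by
          rw [Subgroup.closure_union, Subgroup.closure_eq, Subgroup.closure_eq]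
          exact sup_le (fun z hz => hV₀Y hz) (fun z hz => hV₀'Y hz)
        have h1 := mul_mem (iha (hle ha) (Subgroup.mem_map_of_mem π (hle ha))) (ihb (hle hb) (Subgroup.mem_map_of_mem π (hle hb)))
        convert h1 using 1
        exact Subtype.ext (map_mul π a b)
      | inv a ha iha =>
        intro hw
        have hle : closure ((V₀.subgroupOf Hs : Set Hs) ∪ (V₀'.subgroupOf Hs : Set Hs)) ≤ Y₂.subgroupOf Hs := by
          rw [Subgroup.closure_union, Subgroup.closure_eq, Subgroup.closure_eq]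
          exact sup_le (fun z hz => hV₀Y hz) (fun z hz => hV₀'Y hz)
        have h1 := inv_mem (iha (hle ha) (Subgroup.mem_map_of_mem π (hle ha)))
        convert h1 using 1
        exact Subtype.ext (map_inv π a)
    have h1 : F.index = (F.comap ψ).index := by
      rw [Subgroup.index_comap, ← Subgroup.relIndex_sup_right ψ.range F, hgen,
        Subgroup.relIndex_top_right]
    rw [h1]
    refine le_trans (Nat.le_of_dvd (Nat.pos_of_ne_zero Subgroup.index_ne_zero_of_finite)
      (Subgroup.index_dvd_of_le (H := (CH.subgroupOf Hs).subgroupOf (V₀'.subgroupOf Hs))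
        fun z hz => ?_)) (le_of_eq ?_)
    · show ψ z ∈ F
      have hz' : π (z : Hs) = 1 := (hπ1 _).mpr (le_sup_right (a := V₀ ⊓ CH) ⟨z.2, hz⟩)
      have : ψ z = 1 := Subtype.ext hz'
      rw [this]; exact one_mem F
    · show (CH.subgroupOf Hs).relIndex (V₀'.subgroupOf Hs) = j
      rw [← Subgroup.relIndex_map_map_of_injective _ _ Hs.subtype_injective,
        Subgroup.subgroupOf_map_subtype, Subgroup.subgroupOf_map_subtype,
        inf_eq_left.mpr (inf_le_left.trans hV'H), ← Subgroup.inf_relIndex_right (CH ⊓ Hs) V₀',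
        inf_assoc, inf_eq_right.mpr (inf_le_left.trans hV'H), Subgroup.inf_relIndex_right]
  have hbd : ∀ {U₁ U₂ : Subgroup L}, Cfsg.IsElementaryAbelian 2 U₁ → Cfsg.IsElementaryAbelian 2 U₂ →
      U₁ ⊔ U₂ = Hs → ((centralizer (U₁ : Set L)).relIndex (U₂ ⊓ Q)) ^ 2 ≤
        (centralizer ((U₂ ⊓ Q : Subgroup L) : Set L)).relIndex U₁ →
      (CH.relIndex (U₂ ⊓ Q)) ^ 2 ≤ Q.relIndex U₁ * CH.relIndex (U₁ ⊓ Q) := by
    intro U₁ U₂ h₁ h₂ hsup hb
    have h3 : centralizer (U₁ : Set L) ⊓ (U₂ ⊓ Q) = CH ⊓ (U₂ ⊓ Q) := by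
      refine le_antisymm (le_inf ?_ inf_le_right)
        (inf_le_inf_right _ (Subgroup.centralizer_le (SetLike.coe_subset_coe.mpr (hsup ▸ le_sup_left))))
      rw [hCH, ← hsup, centralizer_sup]
      exact le_inf inf_le_left fun x hx =>
        Subgroup.mem_centralizer_iff.mpr fun u hu => (isEl_iff.mp h₂).1 u hu x hx.2.1
    rw [← Subgroup.inf_relIndex_right CH (U₂ ⊓ Q), ← h3, Subgroup.inf_relIndex_right]
    refine hb.trans ?_
    have h4 : CH ⊓ (U₁ ⊓ Q) ≤ centralizer ((U₂ ⊓ Q : Subgroup L) : Set L) := inf_le_left.trans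
      (Subgroup.centralizer_le (SetLike.coe_subset_coe.mpr (inf_le_left.trans (hsup ▸ le_sup_right))))
    refine le_trans (Nat.le_of_dvd (Nat.pos_of_ne_zero (relIndex_ne_zero' _ _))
      (Subgroup.relIndex_dvd_of_le_left U₁ h4)) (le_of_eq ?_)
    rw [← Subgroup.relIndex_mul_relIndex (CH ⊓ (U₁ ⊓ Q)) (U₁ ⊓ Q) U₁ inf_le_right inf_le_left,
      Subgroup.inf_relIndex_right, mul_comm, inf_comm U₁ Q, Subgroup.inf_relIndex_right]
  have hb1 : j ^ 2 ≤ e * j' := hbd hV hV'el rfl
    (hR V₀' hV₀'Q (elemImage_of_isEl (isEl_mono hV'el inf_le_left)))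
  have hb2 : j' ^ 2 ≤ e * j := by
    have he' : Q.relIndex V' = e := by
      rw [he, ← Subgroup.inf_relIndex_right Q V', inf_comm, ← hV₀', ← hV₀'e, hV',
        Subgroup.relIndex_map_map_of_injective _ _ hinj, hV₀, inf_comm, Subgroup.inf_relIndex_right]
    have := hbd hV'el hV (sup_comm V' V)
      (hR' V₀ hV₀Q (elemImage_of_isEl (isEl_mono hV inf_le_left)))
    rwa [he'] at this
  rw [hcard] at hdom
  have hb3 : e ^ 2 ≤ j := hdom.trans hfix
  have he2 : 2 ≤ e := by
    have h0 := relIndex_ne_zero' Q V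
    have h1 : e ≠ 1 := fun h1 => hVQ (Subgroup.relIndex_eq_one.mp h1)
    omega
  have hj0 : 0 < j := Nat.pos_of_ne_zero (relIndex_ne_zero' _ _)
  have hj'0 : 0 < j' := Nat.pos_of_ne_zero (relIndex_ne_zero' _ _)
  have h5 : j * j' ≤ e ^ 2 := by
    refine Nat.le_of_mul_le_mul_right ?_ (Nat.mul_pos hj0 hj'0)
    calc j * j' * (j * j') = j ^ 2 * j' ^ 2 := by ring
      _ ≤ (e * j') * (e * j) := Nat.mul_le_mul hb1 hb2
      _ = e ^ 2 * (j * j') := by ring
  have h6 : j' ≤ 1 := Nat.le_of_mul_le_mul_left (by rw [mul_one]; exact h5.trans hb3) hj0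
  have h7 : (e ^ 2) ^ 2 ≤ e := by
    calc (e ^ 2) ^ 2 ≤ j ^ 2 := Nat.pow_le_pow_left hb3 2
      _ ≤ e * j' := hb1
      _ ≤ e * 1 := Nat.mul_le_mul_left _ h6
      _ = e := mul_one e
  have h8 : e < (e ^ 2) ^ 2 := by
    rw [← pow_mul]
    calc e = e ^ 1 := (pow_one e).symm
      _ < e ^ (2 * 2) := Nat.pow_lt_pow_right (by omega) (by norm_num)
  omega

end Cfsg.Agent.Block.SFour
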