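import Cfsg.Agent.Lib.Invol.LiftInverting
import Cfsg.Agent.Lib.Grp.Coprime
import Cfsg.Agent.Lib.Grp.Cores
import Cfsg.Agent.Lib.Grp.Frattini
import Cfsg.Agent.Lib.Fus.SupersolubleMetacyclic

/-!
Groups without an element of order three inverted by a 2-element.
-/

set_option autoImplicit false
set_option linter.unusedSectionVars false

namespace Cfsg.Agent.Block.SFour

open Subgroup Cfsg.Agent.Invol
open scoped Pointwise commutatorElement

variable {H : Type*} [Group H] [Finite H]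

/-- The property passed to sections. -/
def NoThree (H : Type*) [Group H] : Prop := ¬ HasInvertedThree H

theorem orderOf_three_pow_part {x : H} {k : ℕ} (hk : x ^ 3 ^ k = 1) (hx : x ≠ 1) :
    ∃ j : ℕ, (x ^ 3 ^ j) ^ 3 = 1 ∧ x ^ 3 ^ j ≠ 1 := by
  classical
  induction k with
  | zero => exact absurd (by simpa using hk) hx
  | succ k ih =>
    by_cases h : x ^ 3 ^ k = 1
    · exact ih h
    · exact ⟨k, by rw [← pow_mul, ← pow_succ]; exact hk, h⟩

/-- Inverted elements of order three lift through every homomorphism. -/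
theorem hasInvertedThree_of_map {K : Type*} [Group K] (f : H →* K) (hf : Function.Surjective f)
    (h : HasInvertedThree K) : HasInvertedThree H := by
  haveI : Fact (Nat.Prime 3) := ⟨by norm_num⟩
  obtain ⟨t, r, ⟨k, hk⟩, hr3, hr1, hinv⟩ := h
  obtain ⟨a, rfl⟩ := hf t
  set T0 := (zpowers r).comap f with hT0
  obtain ⟨R, hR⟩ := Grp.exists_isSylowIn 3 T0
  have haT : MulAut.conj a • T0 = T0 := by
    rw [← Grp.mem_normalizer_iff_smul, Grp.mem_normalizer_of_map_eq]
    refine Subgroup.eq_of_le_of_card_ge ?_ ?_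
    · rintro _ ⟨l, hl, rfl⟩
      obtain ⟨i, hi⟩ := mem_zpowers_iff.mp (show f l ∈ zpowers r from hl)
      show f (a * l * a⁻¹) ∈ zpowers r
      rw [map_mul, map_mul, map_inv, ← hi, ← conj_zpow, hinv]
      exact zpow_mem (inv_mem (mem_zpowers _)) i
    · exact (Subgroup.card_map_of_injective (f := (MulAut.conj a).toMonoidHom)
        (MulAut.conj a).injective).ge
  obtain ⟨l, hl, hle⟩ := hR.conj (hR.smul haT)
  set y := l⁻¹ * a with hy
  have hyn : y ∈ normalizer (R : Set H) := by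
    rw [Grp.mem_normalizer_iff_smul, hy, map_mul, mul_smul, ← hle, smul_smul, ← map_mul,
      inv_mul_cancel, map_one, one_smul]
  have hfy : f y * r * (f y)⁻¹ = r⁻¹ := by
    obtain ⟨j, hj⟩ := mem_zpowers_iff.mp (show f l ∈ zpowers r from hl)
    rw [hy, map_mul, map_inv, ← hj]
    calc (r ^ j)⁻¹ * f a * r * ((r ^ j)⁻¹ * f a)⁻¹
        = (r ^ j)⁻¹ * (f a * r * (f a)⁻¹) * r ^ j := by group
      _ = r⁻¹ := by rw [hinv]; group
  -- pass to the 2-part
  set m := orderOf y / 2 ^ (orderOf y).factorization 2 with hm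
  obtain ⟨q, hq⟩ : Odd m := Nat.not_even_iff_odd.mp fun h =>
    Nat.not_dvd_ordCompl Nat.prime_two (orderOf_pos y).ne' h.two_dvd
  set u := y ^ m with hu
  have hu2 : u ^ 2 ^ (orderOf y).factorization 2 = 1 := by
    rw [hu, ← pow_mul, hm, Nat.div_mul_cancel (Nat.ordProj_dvd _ _), pow_orderOf_eq_one]
  have hfu : f u * r * (f u)⁻¹ = r⁻¹ := by
    have hev : ∀ n : ℕ, f y ^ (2 * n) * r * (f y ^ (2 * n))⁻¹ = r := by
      intro n
      induction n with
      | zero => simp
      | succ n ih =>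
        rw [show 2 * (n + 1) = 2 * n + 1 + 1 by omega, pow_succ', pow_succ']
        calc f y * (f y * f y ^ (2 * n)) * r * (f y * (f y * f y ^ (2 * n)))⁻¹
            = f y * (f y * (f y ^ (2 * n) * r * (f y ^ (2 * n))⁻¹) * (f y)⁻¹) * (f y)⁻¹ := by group
          _ = f y * r⁻¹ * (f y)⁻¹ := by rw [ih, hfy]
          _ = (f y * r * (f y)⁻¹)⁻¹ := by group
          _ = r := by rw [hfy, inv_inv]
    rw [hu, map_pow, hq, pow_succ']
    calc f y * f y ^ (2 * q) * r * (f y * f y ^ (2 * q))⁻¹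
        = f y * (f y ^ (2 * q) * r * (f y ^ (2 * q))⁻¹) * (f y)⁻¹ := by group
      _ = r⁻¹ := by rw [hev, hfy]
  have hun : u ∈ normalizer (R : Set H) := pow_mem hyn m
  -- an element of `R` above `r`
  obtain ⟨z, hzR, hz⟩ : ∃ z ∈ R, f z = r := by
    have hRim : R.map f ≤ zpowers r := Subgroup.map_le_iff_le_comap.mpr hR.1
    have ho : orderOf r = 3 := orderOf_eq_prime hr3 hr1
    have hcard : Nat.card (zpowers r) = 3 := by rw [Nat.card_zpowers, ho]
    rcases (Nat.dvd_prime (by norm_num : Nat.Prime 3)).mp (hcard ▸ Subgroup.card_dvd_of_le hRim) with h1 | h1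
    · exfalso
      rw [Subgroup.card_eq_one, Subgroup.map_eq_bot_iff] at h1
      refine hR.2.2 ?_
      have hkT : f.ker ≤ T0 := fun w hw => by
        show f w ∈ zpowers r
        rw [MonoidHom.mem_ker.mp hw]; exact one_mem _
      rw [← Subgroup.relIndex_mul_relIndex R f.ker T0 h1 hkT]
      refine dvd_mul_of_dvd_right ?_ _
      rw [Subgroup.relIndex_ker, hT0, Subgroup.map_comap_eq_self_of_surjective hf, hcard]
    · haveI : Finite (zpowers r) := Nat.finite_of_card_ne_zero (by rw [hcard]; norm_num)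
      have : R.map f = zpowers r := Subgroup.eq_of_le_of_card_ge hRim (by rw [hcard, h1])
      exact Subgroup.mem_map.mp (this.symm ▸ mem_zpowers r)
  have hR3 : IsPGroup 3 R := hR.2.1
  have hcomm : f (u ^ 2) * r * (f (u ^ 2))⁻¹ = r := by
    rw [map_pow, pow_two]
    calc f u * f u * r * (f u * f u)⁻¹ = f u * (f u * r * (f u)⁻¹) * (f u)⁻¹ := by group
      _ = f u * r⁻¹ * (f u)⁻¹ := by rw [hfu]
      _ = (f u * r * (f u)⁻¹)⁻¹ := by group
      _ = r := by rw [hfu, inv_inv]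
  have hcop : (Nat.card (zpowers (u ^ 2))).Coprime (Nat.card R) := by
    obtain ⟨e, he⟩ := hR3.exists_card_eq
    rw [Nat.card_zpowers, he]
    refine Nat.Coprime.pow_right e (Nat.Coprime.coprime_dvd_left
      ((orderOf_pow_dvd 2).trans (orderOf_dvd_of_pow_eq_one hu2)) ?_)
    exact (by norm_num : (2 : ℕ).Coprime 3).pow_left _
  have hAR : zpowers (u ^ 2) ≤ normalizer (R : Set H) := zpowers_le.mpr (pow_mem hun 2)
  have hRk : R ≤ normalizer ((R ⊓ f.ker : Subgroup H) : Set H) := fun w hw =>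
    Grp.mem_normalizer_of_map_eq.mpr (Subgroup.eq_of_le_of_card_ge (by
      rintro _ ⟨v, hv, rfl⟩
      exact ⟨R.mul_mem (R.mul_mem hw hv.1) (R.inv_mem hw), f.normal_ker.conj_mem v hv.2 w⟩)
      (Subgroup.card_map_of_injective (f := (MulAut.conj w).toMonoidHom) (MulAut.conj w).injective).ge)
  obtain ⟨c, ⟨hcR, hcC⟩, hck⟩ := Grp.exists_fixed_rep (zpowers (u ^ 2)) R (R ⊓ f.ker) hAR
    (inf_eq_bot_of_coprime hcop)
    (hcop.coprime_dvd_right (Subgroup.card_dvd_of_le inf_le_left)) (Or.inl inferInstance) inf_le_left hRk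
    (fun b hb => Grp.mem_normalizer_of_map_eq.mpr (Subgroup.eq_of_le_of_card_ge (by
      rintro _ ⟨v, hv, rfl⟩
      exact ⟨Grp.mem_conj_normalizer (hAR hb) hv.1, f.normal_ker.conj_mem v hv.2 b⟩)
      (Subgroup.card_map_of_injective (f := (MulAut.conj b).toMonoidHom) (MulAut.conj b).injective).ge))
    hzR (fun b hb => by
      obtain ⟨i, rfl⟩ := mem_zpowers_iff.mp hb
      refine ⟨R.mul_mem (Grp.mem_conj_normalizer (hAR hb) hzR) (R.inv_mem hzR), ?_⟩
      have hc : Commute (f (u ^ 2)) r := mul_inv_eq_iff_eq_mul.mp hcomm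
      show f ((u ^ 2) ^ i * z * ((u ^ 2) ^ i)⁻¹ * z⁻¹) = 1
      rw [map_mul, map_mul, map_mul, map_inv, map_inv, map_zpow, hz, (hc.zpow_left i).eq]
      group)
  have hfc : f c = r := by
    have : f (z⁻¹ * c) = 1 := hck.2
    rwa [map_mul, map_inv, hz, inv_mul_eq_one, eq_comm] at this
  have hu2c : u ^ 2 * c = c * u ^ 2 :=
    Subgroup.mem_centralizer_iff.mp hcC _ (mem_zpowers _)
  set x := c⁻¹ * (u * c * u⁻¹) with hx
  have hxR : x ∈ R := R.mul_mem (R.inv_mem hcR) (Grp.mem_conj_normalizer hun hcR)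
  have hxinv : u * x * u⁻¹ = x⁻¹ := by
    have e : u * (u * c * u⁻¹) * u⁻¹ = c := by
      calc u * (u * c * u⁻¹) * u⁻¹ = u ^ 2 * c * (u ^ 2)⁻¹ := by rw [pow_two]; group
        _ = c := by rw [hu2c, mul_inv_cancel_right]
    calc u * x * u⁻¹ = (u * c * u⁻¹)⁻¹ * (u * (u * c * u⁻¹) * u⁻¹) := by rw [hx]; group
      _ = x⁻¹ := by rw [e, hx]; group
  have hfx : f x = r := by
    rw [hx, map_mul, map_inv, map_mul, map_mul, map_inv, hfc, hfu]
    calc r⁻¹ * r⁻¹ = r⁻¹ * r⁻¹ * (r * r * r) := by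
          rw [show r * r * r = r ^ 3 by simp [pow_succ], hr3, mul_one]
      _ = r := by group
  obtain ⟨e, he⟩ := hR3 ⟨x, hxR⟩
  have hxe : x ^ 3 ^ e = 1 := congrArg Subtype.val he
  obtain ⟨j, hj3, hj1⟩ := orderOf_three_pow_part hxe (fun h => hr1 (by rw [← hfx, h, map_one]))
  refine ⟨u, x ^ 3 ^ j, ⟨_, hu2⟩, hj3, hj1, ?_⟩
  rw [← conj_pow, hxinv, inv_pow]

theorem NoThree.subgroup (h : NoThree H) (J : Subgroup H) : NoThree J :=
  fun hJ => h hJ.of_subgroup

theorem NoThree.map {K : Type*} [Group K] (h : NoThree H) (f : H →* K) (hf : Function.Surjective f) :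
    NoThree K :=
  fun hK => h (hasInvertedThree_of_map f hf hK)

theorem NoThree.quotient (h : NoThree H) (N : Subgroup H) [N.Normal] : NoThree (H ⧸ N) :=
  h.map (QuotientGroup.mk' N) (QuotientGroup.mk'_surjective N)

/-- In a group of characteristic two without a section `S₄` no element of order three is inverted
by a 2-element. -/
theorem noThree_of_sfourFree
    (hchar : centralizer (Cfsg.pCore 2 H : Set H) ≤ Cfsg.pCore 2 H)
    (hfree : ¬ Cfsg.Involves (Equiv.Perm (Fin 4)) H) : NoThree H := by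
  rintro ⟨t, r, ht, hr3, hr1, hinv⟩
  haveI : Fact (Nat.Prime 2) := ⟨Nat.prime_two⟩
  set Q := Cfsg.pCore 2 H
  haveI : Q.Normal := Grp.pCore_isNormal
  have hQ : IsPGroup 2 Q := Grp.pCore_isPGroup
  set Φ := (frattini Q).map Q.subtype with hΦ
  haveI : Φ.Normal := inferInstance
  let f := QuotientGroup.mk' Φ
  haveI : (Q.map f).Normal := (inferInstance : Q.Normal).map _ (QuotientGroup.mk'_surjective _)
  refine hfree (IsSectionOf.involves ((isSectionOf_perm_four_of_inverted (Q.map f) ?_ ?_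
    (t := f t) (r := f r) ?_ ?_ ?_ ?_).trans (IsSectionOf.of_surjective f (QuotientGroup.mk'_surjective _))))
  · rintro _ ⟨a, ha, rfl⟩ _ ⟨b, hb, rfl⟩
    rw [← commutatorElement_eq_one_iff_mul_comm, ← map_commutatorElement]
    refine (QuotientGroup.eq_one_iff _).mpr ⟨⁅(⟨a, ha⟩ : Q), ⟨b, hb⟩⁆, ?_, rfl⟩
    exact Grp.pGroup_commutator_le_frattini hQ (Subgroup.commutator_mem_commutator (mem_top _) (mem_top _))
  · rintro _ ⟨a, ha, rfl⟩
    rw [← map_pow]
    exact (QuotientGroup.eq_one_iff _).mpr ⟨(⟨a, ha⟩ : Q) ^ 2,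
      Grp.pGroup_pow_mem_frattini hQ ⟨a, ha⟩, rfl⟩
  · obtain ⟨k, hk⟩ := ht
    exact ⟨k, by rw [← map_pow, hk, map_one]⟩
  · rw [← map_pow, hr3, map_one]
  · rw [← map_inv, ← map_mul, ← map_mul, hinv, map_inv]
  · by_contra hcon
    push Not at hcon
    let β : MulAut Q := MulAut.conjNormal r
    have hβ : β = 1 := Fus.SuperMeta.eq_one_of_coprime_frattini hQ (m := 3) (by norm_num)
      (by show (MulAut.conjNormal r) ^ 3 = 1; rw [← map_pow, hr3, map_one]) fun x => by
        have h1 := hcon (f x) ⟨x, x.2, rfl⟩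
        have h2 : f ((x : H)⁻¹ * (r * x * r⁻¹)) = 1 := by
          rw [map_mul, map_inv, map_mul, map_mul, map_inv, h1]; group
        obtain ⟨w, hw, hwe⟩ := (QuotientGroup.eq_one_iff _).mp h2
        have : x⁻¹ * β x = w := Subtype.ext (by
          show (x : H)⁻¹ * ((MulAut.conjNormal r x : Q) : H) = _
          rw [MulAut.conjNormal_apply]; exact hwe.symm)
        rw [this]; exact hw
    have hrC : r ∈ centralizer (Q : Set H) := Subgroup.mem_centralizer_iff.mpr fun q hq => by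
      have h1 := congrArg Subtype.val (DFunLike.congr_fun hβ ⟨q, hq⟩)
      have h1' : r * q * r⁻¹ = q := (MulAut.conjNormal_apply r ⟨q, hq⟩).symm.trans h1
      rw [mul_inv_eq_iff_eq_mul] at h1'
      exact h1'.symm
    obtain ⟨k, hk⟩ := hQ ⟨r, hchar hrC⟩
    have hk' : r ^ 2 ^ k = 1 := congrArg Subtype.val hk
    have := pow_gcd_eq_one.2 ⟨hk', hr3⟩
    rw [Nat.Coprime.gcd_eq_one ((by norm_num : (2 : ℕ).Coprime 3).pow_left k), pow_one] at this
    exact hr1 this

end Cfsg.Agent.Block.SFour
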