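import Cfsg.Agent.Lib.Block.SFourFree.Stage1
import Cfsg.Agent.Lib.Invol.Transvection

/-!
A minimal group in the second factorisation: basic facts and bounds on modules.
-/

set_option autoImplicit false
set_option linter.unusedSectionVars false
set_option linter.style.haveILetI false

namespace Cfsg.Agent.Block.SFour

open Subgroup Cfsg.Agent.Invol
open scoped Pointwise commutatorElement IsMulCommutative

universe u

variable {L : Type u} [Group L] [Finite L]

/-- The group generated by the elements of odd order. -/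
abbrev oddGen (L : Type u) [Group L] : Subgroup L := Cfsg.pResidual 2 L

/-- `[O₂(L), O^2(L)]`. -/
def moved (L : Type u) [Group L] : Subgroup L := ⁅Cfsg.pCore 2 L, oddGen L⁆

instance moved_normal : (moved L).Normal := by
  haveI : (Cfsg.pCore 2 L).Normal := Grp.pCore_isNormal
  unfold moved; infer_instance

theorem moved_le_pCore : moved L ≤ Cfsg.pCore 2 L := by
  haveI : (Cfsg.pCore 2 L).Normal := Grp.pCore_isNormal
  exact Subgroup.commutator_le_left _ _

theorem moved_le_oddGen : moved L ≤ oddGen L := Subgroup.commutator_le_right _ _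

theorem oddGen_le_of_odd {N : Subgroup L} (h : ∀ x : L, Odd (orderOf x) → x ∈ N) : oddGen L ≤ N :=
  (Subgroup.closure_le N).mpr fun x hx => h x (Nat.coprime_two_right.mp hx)

/-- A group all whose proper overgroups of a Sylow 2-subgroup lie in one of them. -/
structure Min (S : Sylow 2 L) (M : Subgroup L) : Prop where
  loc : Local L
  ne_top : M ≠ ⊤
  max : ∀ K : Subgroup L, K ≠ ⊤ → (S : Subgroup L) ≤ K → K ≤ M
  hJ : normalizer (Cfsg.thompsonSubgroupOf 2 (S : Subgroup L) : Set L) ≤ M
  hU : normalizer (uHat (S : Subgroup L) : Set L) ≤ M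

section
variable {S : Sylow 2 L} {M : Subgroup L}

theorem Min.dichotomy (h : Min S M) (N : Subgroup L) [N.Normal] :
    oddGen L ≤ N ∨ (S : Subgroup L) ⊓ N ≤ Cfsg.pCore 2 L := by
  haveI : Fact (Nat.Prime 2) := ⟨Nat.prime_two⟩
  by_cases hNS : N ⊔ (S : Subgroup L) = ⊤
  · left
    refine oddGen_le_of_odd fun x hx => ?_
    obtain ⟨n, hn, s, hs, rfl⟩ := Subgroup.mem_sup_of_normal_left.mp (show x ∈ N ⊔ (S : Subgroup L) by
      rw [hNS]; trivial)
    obtain ⟨k, hk⟩ := S.isPGroup' ⟨s, hs⟩
    have hk' : s ^ 2 ^ k = 1 := congrArg Subtype.val hk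
    rw [← QuotientGroup.eq_one_iff (N := N), ← QuotientGroup.mk'_apply]
    have h1 : QuotientGroup.mk' N (n * s) = QuotientGroup.mk' N s := by
      rw [map_mul, show QuotientGroup.mk' N n = 1 from (QuotientGroup.eq_one_iff n).mpr hn, one_mul]
    have h2 : QuotientGroup.mk' N (n * s) ^ 2 ^ k = 1 := by rw [h1, ← map_pow, hk', map_one]
    have h3 : QuotientGroup.mk' N (n * s) ^ orderOf (n * s) = 1 := by
      rw [← map_pow, pow_orderOf_eq_one, map_one]
    have h4 := pow_gcd_eq_one.2 ⟨h2, h3⟩
    rwa [Nat.Coprime.gcd_eq_one ((Nat.coprime_two_left.mpr hx).pow_left k), pow_one] at h4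
  · right
    set R := (S : Subgroup L) ⊓ N with hR
    have hfr := frattini_inf S N
    by_cases htop : normalizer (R : Set L) = ⊤
    · exact Grp.le_pCore (Subgroup.normalizer_eq_top_iff.mp htop) (S.isPGroup'.to_le inf_le_left)
    · exfalso
      have hSR : (S : Subgroup L) ≤ normalizer (R : Set L) := by
        intro s hs
        rw [Subgroup.mem_normalizer_iff]
        intro x
        refine ⟨fun hx => ⟨(S : Subgroup L).mul_mem ((S : Subgroup L).mul_mem hs hx.1)
            ((S : Subgroup L).inv_mem hs),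
          (inferInstance : N.Normal).conj_mem x hx.2 s⟩, fun hx => ⟨?_, ?_⟩⟩
        · have h1 := (S : Subgroup L).mul_mem
            ((S : Subgroup L).mul_mem ((S : Subgroup L).inv_mem hs) hx.1) hs
          rw [show s⁻¹ * (s * x * s⁻¹) * s = x by group] at h1
          exact h1
        · have h1 := (inferInstance : N.Normal).conj_mem _ hx.2 s⁻¹
          rw [show s⁻¹ * (s * x * s⁻¹) * s⁻¹⁻¹ = x by group] at h1
          exact h1
      refine h.ne_top (top_le_iff.mp (hfr ▸ sup_le (h.max _ htop hSR) ?_))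
      exact le_sup_left.trans (h.max _ hNS le_sup_right)

theorem Min.sylow_ne (h : Min S M) :
    ¬ Cfsg.thompsonSubgroupOf 2 (S : Subgroup L) ≤ Cfsg.pCore 2 L := fun hle => by
  haveI : Fact (Nat.Prime 2) := ⟨Nat.prime_two⟩
  haveI : (Cfsg.pCore 2 L).Normal := Grp.pCore_isNormal
  have e := JComp.thompson_eq_of_between hle (Grp.pCore_le_sylow S)
  refine h.ne_top (top_le_iff.mp (le_trans ?_ h.hJ))
  rw [← e, ← Subgroup.normalizer_eq_top (H := Cfsg.pCore 2 L)]
  exact normalizer_le_thompson _

theorem Min.exists_maxEl (h : Min S M) :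
    ∃ A, IsMaxEl 2 (S : Subgroup L) A ∧ ¬ A ≤ Cfsg.pCore 2 L := by
  by_contra hcon
  push Not at hcon
  exact h.sylow_ne (thompsonEl_le_of hcon)

theorem Min.oddGen_not_le (h : Min S M) : ¬ oddGen L ≤ Cfsg.pCore 2 L := fun hle => by
  haveI : Fact (Nat.Prime 2) := ⟨Nat.prime_two⟩
  have h1 : (S : Subgroup L) = ⊤ := by
    rw [← Invol.pResidual_sup_sylow S, sup_eq_right.mpr]
    exact hle.trans (Grp.pCore_le_sylow S)
  refine h.sylow_ne ((thompsonEl_le _).trans (Grp.le_pCore ?_ S.isPGroup'))
  rw [h1]; infer_instance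

theorem Min.moved_commutator (h : Min S M) : ⁅moved L, oddGen L⁆ = moved L := by
  haveI : Fact (Nat.Prime 2) := ⟨Nat.prime_two⟩
  haveI := h.loc.solv
  set Q := Cfsg.pCore 2 L
  haveI : Q.Normal := Grp.pCore_isNormal
  refine le_antisymm (Subgroup.commutator_le_left _ _) ?_
  set Y₁ := ⁅moved L, oddGen L⁆
  haveI : Y₁.Normal := inferInstance
  set f := QuotientGroup.mk' Y₁
  have hO : oddGen L ≤ (centralizer (Q.map f : Set (L ⧸ Y₁))).comap f := by
    refine oddGen_le_of_odd fun y hy => ?_
    rw [Subgroup.mem_comap, Subgroup.mem_centralizer_iff]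
    rintro _ ⟨q, hq, rfl⟩
    rw [← commutatorElement_eq_one_iff_mul_comm, ← map_commutatorElement]
    refine (QuotientGroup.eq_one_iff _).mpr ?_
    have hcop : (Nat.card (zpowers y)).Coprime (Nat.card Q) := by
      obtain ⟨e, he⟩ := (Grp.pCore_isPGroup (p := 2) (G := L)).exists_card_eq
      rw [Nat.card_zpowers, he]
      exact (Nat.coprime_two_right.mpr hy).pow_right e
    have hn : zpowers y ≤ normalizer (Q : Set L) := by rw [Subgroup.normalizer_eq_top]; exact le_top
    have hyO : zpowers y ≤ oddGen L :=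
      zpowers_le.mpr (Invol.mem_pResidual (Nat.coprime_two_right.mpr hy))
    have h1 := Grp.commutator_commutator_eq (zpowers y) Q hn hcop (Or.inr inferInstance)
    have h2 : ⁅q, y⁆ ∈ ⁅Q, zpowers y⁆ := Subgroup.commutator_mem_commutator hq (mem_zpowers y)
    rw [← h1] at h2
    exact Subgroup.commutator_mono (Subgroup.commutator_mono le_rfl hyO) hyO h2
  rw [moved, Subgroup.commutator_le]
  intro q hq x hx
  rw [← QuotientGroup.eq_one_iff (N := Y₁), ← QuotientGroup.mk'_apply, map_commutatorElement,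
    commutatorElement_eq_one_iff_mul_comm]
  exact Subgroup.mem_centralizer_iff.mp (hO hx) _ ⟨q, hq, rfl⟩

theorem Min.centralizer_moved_le (h : Min S M) :
    centralizer (moved L : Set L) ≤ Cfsg.pCore 2 L := by
  haveI : Fact (Nat.Prime 2) := ⟨Nat.prime_two⟩
  haveI := h.loc.solv
  set Q := Cfsg.pCore 2 L
  haveI : Q.Normal := Grp.pCore_isNormal
  set C := centralizer (moved L : Set L) with hC
  haveI : C.Normal := by rw [hC]; infer_instance
  -- odd elements centralising `[Q, O]` are trivial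
  have hodd : ∀ y ∈ C, Odd (orderOf y) → y = 1 := by
    intro y hyC hy
    have hcop : (Nat.card (zpowers y)).Coprime (Nat.card Q) := by
      obtain ⟨e, he⟩ := (Grp.pCore_isPGroup (p := 2) (G := L)).exists_card_eq
      rw [Nat.card_zpowers, he]
      exact (Nat.coprime_two_right.mpr hy).pow_right e
    have hle : zpowers y ≤ centralizer (Q : Set L) := by
      refine Grp.le_centralizer_of_series (zpowers y) Q (moved L)
        (by rw [Subgroup.normalizer_eq_top]; exact le_top) hcop (Or.inr inferInstance)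
        (Subgroup.commutator_mono le_rfl
          (zpowers_le.mpr (Invol.mem_pResidual (Nat.coprime_two_right.mpr hy)))) ?_
      rw [Subgroup.commutator_comm, Subgroup.commutator_eq_bot_iff_le_centralizer, zpowers_le]
      exact hyC
    obtain ⟨k, hk⟩ := Grp.pCore_isPGroup ⟨y, h.loc.char2 (hle (mem_zpowers y))⟩
    have hk' : y ^ 2 ^ k = 1 := congrArg Subtype.val hk
    have h4 := pow_gcd_eq_one.2 ⟨hk', pow_orderOf_eq_one y⟩
    rwa [Nat.Coprime.gcd_eq_one ((Nat.coprime_two_left.mpr hy).pow_left k), pow_one] at h4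
  rcases h.dichotomy C with hO | hS
  · exfalso
    refine h.oddGen_not_le (oddGen_le_of_odd fun y hy => ?_)
    rw [hodd y (hO (Invol.mem_pResidual (Nat.coprime_two_right.mpr hy))) hy]
    exact one_mem _
  · have hCp : IsPGroup 2 C := by
      intro x
      obtain ⟨k, hk⟩ := Invol.exists_pow_coprime (p := 2) (x : L)
      exact ⟨k, Subtype.ext (hodd _ (pow_mem x.2 _) (Nat.coprime_two_right.mp hk))⟩
    exact Grp.le_pCore inferInstance hCp

theorem Min.sylow_inf_le_of_moved (h : Min S M) {X : Subgroup L} [X.Normal]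
    (hX : ¬ oddGen L ≤ X) : (S : Subgroup L) ⊓ X ≤ Cfsg.pCore 2 L :=
  (h.dichotomy X).resolve_left hX

end

/-! ### Bounds on modules -/

variable {X : Type u} [CommGroup X] [Finite X]

theorem relIndex_fix_le {α : L →* MulAut X} (A : Subgroup L) (U : Subgroup X) :
    (fixOf α A).relIndex U ≤ (fixOf α A).index := by
  rw [← Subgroup.relIndex_top_right]
  exact Subgroup.relIndex_le_of_le_right le_top (relIndex_ne_zero' _ _)

theorem index_restrictAct {α : L →* MulAut X} (A : Subgroup L) (U : Subgroup X)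
    (hU : ∀ g : L, ∀ u ∈ U, α g u ∈ U) :
    (fixOf (restrictAct α U hU) A).index = (fixOf α A).relIndex U := by
  have e : fixOf (restrictAct α U hU) A = (fixOf α A).subgroupOf U := by
    ext u
    exact ⟨fun h a ha => congrArg Subtype.val (h a ha), fun h a ha => Subtype.ext (h a ha)⟩
  rw [e]; rfl

theorem index_fix_mul_le {α : L →* MulAut X} (A : Subgroup L) (U : Subgroup X)
    (hU : ∀ g : L, ∀ u ∈ U, α g u ∈ U) :
    (fixOf α A).relIndex U * (fixOf (quotientAct α U hU) A).index ≤ (fixOf α A).index := by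
  set P := (fixOf (quotientAct α U hU) A).comap (QuotientGroup.mk' U) with hP
  have h1 : fixOf α A ≤ P := fun v hv a ha => by
    show quotientAct α U hU a (v : X ⧸ U) = _
    rw [quotientAct_mk, hv a ha]
    rfl
  have h2 : U ≤ P := fun v hv a ha => by
    show quotientAct α U hU a (v : X ⧸ U) = _
    rw [(QuotientGroup.eq_one_iff v).mpr hv, map_one]
    exact ((QuotientGroup.eq_one_iff v).mpr hv).symm
  have h3 : P.index = (fixOf (quotientAct α U hU) A).index :=
    Subgroup.index_comap_of_surjective _ (QuotientGroup.mk'_surjective U)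
  rw [← h3, ← Subgroup.relIndex_top_right, ← Subgroup.relIndex_top_right]
  exact relIndex_mul_le h1 h2 le_top le_top

variable {S : Sylow 2 L} {M : Subgroup L}

/-- A faithful bound when `[Q, O]` acts trivially and `O` does not. -/
theorem Min.bound_triv (h : Min S M) {α : L →* MulAut X} (hX : ∀ v : X, v ^ 2 = 1)
    (hY : ∀ y ∈ moved L, α y = 1) (hO : ∃ x ∈ oddGen L, α x ≠ 1) {A : Subgroup L}
    (hAS : A ≤ (S : Subgroup L)) (hA : Cfsg.IsElementaryAbelian 2 A) :
    ((Cfsg.pCore 2 L).relIndex A) ^ 2 ≤ (fixOf α A).relIndex (fixOf α (Cfsg.pCore 2 L)) := by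
  haveI : Fact (Nat.Prime 2) := ⟨Nat.prime_two⟩
  haveI := h.loc.solv
  set Q := Cfsg.pCore 2 L with hQ
  haveI hQn : Q.Normal := Grp.pCore_isNormal
  set U := fixOf α Q with hUdef
  have hU : ∀ g : L, ∀ u ∈ U, α g u ∈ U := fun g u hu q hq => by
    have := hu _ (hQn.conj_mem q hq g⁻¹)
    rw [inv_inv, map_mul, map_mul, MulAut.mul_apply, MulAut.mul_apply, map_inv] at this
    conv_rhs => rw [← this, MulAut.apply_inv_self]
  set β := restrictAct α U hU with hβ
  -- `O` is not trivial on the fixed points of `Q`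
  have hOU : ¬ oddGen L ≤ β.ker := by
    intro hle
    obtain ⟨x, hx, hne⟩ := hO
    refine hne (MonoidHom.mem_ker.mp ((oddGen_le_of_odd (N := α.ker) fun y hy => ?_) hx))
    rw [MonoidHom.mem_ker]
    have hy' : y ∈ oddGen L := Invol.mem_pResidual (Nat.coprime_two_right.mpr hy)
    refine eq_one_of_fix_centralizer (isPGroup_of_inv_two hX) (P := Q.map α)
      (Grp.pCore_isPGroup.map α) (Nat.coprime_two_right.mpr hy)
      (by rw [← map_pow, pow_orderOf_eq_one, map_one]) ?_ fun v hv => ?_
    · rintro _ ⟨q, hq, rfl⟩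
      have := hY _ (Subgroup.commutator_mem_commutator hq hy')
      rw [map_commutatorElement, commutatorElement_eq_one_iff_mul_comm] at this
      exact this
    · have hvU : v ∈ U := fun q hq => hv _ ⟨q, hq, rfl⟩
      exact congrArg Subtype.val (DFunLike.congr_fun (MonoidHom.mem_ker.mp (hle hy')) (⟨v, hvU⟩ : U))
  have hQker : Q ≤ β.ker := fun q hq => MonoidHom.mem_ker.mpr
    (MulEquiv.ext fun u => Subtype.ext (u.2 q hq))
  have hSker : (S : Subgroup L) ⊓ β.ker ≤ Q := h.sylow_inf_le_of_moved hOU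
  have hred : Cfsg.pCore 2 β.range = ⊥ := by
    rw [Subgroup.eq_bot_iff_forall]
    intro z hz
    obtain ⟨x, rfl⟩ := β.rangeRestrict_surjective z
    haveI : (Cfsg.pCore 2 β.range).Normal := Grp.pCore_isNormal
    haveI : ((Cfsg.pCore 2 β.range).comap β.rangeRestrict).Normal :=
      (inferInstance : (Cfsg.pCore 2 β.range).Normal).comap _
    have hnot : ¬ oddGen L ≤ (Cfsg.pCore 2 β.range).comap β.rangeRestrict := by
      refine fun hle => hOU (oddGen_le_of_odd fun y hy => ?_)
      obtain ⟨k, hk⟩ := Grp.pCore_isPGroup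
        ⟨β.rangeRestrict y, hle (Invol.mem_pResidual (Nat.coprime_two_right.mpr hy))⟩
      have hk' : β y ^ 2 ^ k = 1 := congrArg (fun w : Cfsg.pCore 2 β.range => ((w : β.range) : MulAut U)) hk
      have h4 := pow_gcd_eq_one.2 ⟨hk', (by rw [← map_pow, pow_orderOf_eq_one, map_one] :
        β y ^ orderOf y = 1)⟩
      rw [Nat.Coprime.gcd_eq_one ((Nat.coprime_two_left.mpr hy).pow_left k), pow_one] at h4
      exact MonoidHom.mem_ker.mpr h4
    obtain ⟨s, hs, hsx⟩ := pCore_preimage β.rangeRestrict β.rangeRestrict_surjective S hz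
    have hsQ : s ∈ Q := h.sylow_inf_le_of_moved hnot ⟨hs, Subgroup.mem_comap.mpr (hsx ▸ hz)⟩
    rw [← hsx]
    exact Subtype.ext (MonoidHom.mem_ker.mp (hQker hsQ))
  have hel : Cfsg.IsElementaryAbelian 2 (A.map β) := isEl_map hA β
  have hb := dom_act (α := β) (fun u => Subtype.ext (by rw [SubmonoidClass.coe_pow]; exact hX _))
    h.loc.noThree h.loc.solv hel hred
  have e : Q.relIndex A = Nat.card (A.map β) := by
    rw [← Subgroup.relIndex_ker, ← Subgroup.inf_relIndex_right Q A,
      ← Subgroup.inf_relIndex_right β.ker A]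
    congr 1
    exact le_antisymm (inf_le_inf_right _ hQker)
      (le_inf ((le_inf (inf_le_right.trans hAS) inf_le_left).trans hSker) inf_le_right)
  rwa [index_restrictAct, ← e] at hb

/-- The bound for every module on which `O` acts nontrivially. -/
theorem Min.bound_any (h : Min S M) {A : Subgroup L} (hAS : A ≤ (S : Subgroup L))
    (hA : Cfsg.IsElementaryAbelian 2 A) :
    ∀ (n : ℕ) (X : Type u) [CommGroup X] [Finite X] (α : L →* MulAut X), Nat.card X = n →
      (∀ v : X, v ^ 2 = 1) → (∃ x ∈ oddGen L, α x ≠ 1) →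
      ((Cfsg.pCore 2 L).relIndex A) ^ 2 ≤ (fixOf α A).index := by
  haveI : Fact (Nat.Prime 2) := ⟨Nat.prime_two⟩
  intro n
  induction n using Nat.strong_induction_on with
  | _ n ih =>
  intro X _ _ α hn hX hO
  set U := fixOf α (moved L) with hUdef
  have hU : ∀ g : L, ∀ u ∈ U, α g u ∈ U := fun g u hu q hq => by
    have := hu _ ((moved_normal (L := L)).conj_mem q hq g⁻¹)
    rw [inv_inv, map_mul, map_mul, MulAut.mul_apply, MulAut.mul_apply, map_inv] at this
    conv_rhs => rw [← this, MulAut.apply_inv_self]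
  set β := restrictAct α U hU with hβ
  by_cases hOU : ∃ x ∈ oddGen L, β x ≠ 1
  · have h1 := h.bound_triv (α := β)
      (fun u => Subtype.ext (by rw [SubmonoidClass.coe_pow]; exact hX _))
      (fun y hy => MulEquiv.ext fun u => Subtype.ext (u.2 y hy)) hOU hAS hA
    refine h1.trans ((relIndex_fix_le A _).trans ?_)
    rw [index_restrictAct]
    exact relIndex_fix_le A U
  push Not at hOU
  set γ := quotientAct α U hU with hγ
  have hOq : ∃ x ∈ oddGen L, γ x ≠ 1 := by
    by_contra hcon
    push Not at hcon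
    obtain ⟨x, hx, hne⟩ := hO
    refine hne (MonoidHom.mem_ker.mp ((oddGen_le_of_odd (N := α.ker) fun y hy => ?_) hx))
    have hy' : y ∈ oddGen L := Invol.mem_pResidual (Nat.coprime_two_right.mpr hy)
    refine MonoidHom.mem_ker.mpr (Invol.eq_one_of_fix_steps hX (k := orderOf y) hy.not_two_dvd_nat
      (by rw [← map_pow, pow_orderOf_eq_one, map_one]) (U := U)
      (fun u hu => congrArg Subtype.val (DFunLike.congr_fun (hOU y hy') (⟨u, hu⟩ : U))) fun v => ?_)
    have := DFunLike.congr_fun (hcon y hy') (v : X ⧸ U)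
    rw [hγ, quotientAct_mk, MulAut.one_apply, QuotientGroup.eq_iff_div_mem] at this
    exact this
  have hUne : U ≠ ⊥ := by
    intro hbot
    haveI : Nontrivial X := by
      obtain ⟨x, _, hne⟩ := hO
      by_contra hnt
      rw [not_nontrivial_iff_subsingleton] at hnt
      exact hne (MulEquiv.ext fun v => Subsingleton.elim _ _)
    obtain ⟨u, -, hu1, hu⟩ := exists_fixed_ne_one (isPGroup_of_inv_two hX)
      ((Grp.pCore_isPGroup.to_le (moved_le_pCore (L := L))).map α)
      (D := (⊤ : Subgroup X)) top_ne_bot (fun f _ => fun v _ => Subgroup.mem_top _)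
    have huU : u ∈ U := fun y hy => hu _ ⟨y, hy, rfl⟩
    rw [hbot, Subgroup.mem_bot] at huU
    exact hu1 huU
  have hlt : Nat.card (X ⧸ U) < n := by
    rw [← hn, ← Subgroup.index_eq_card]
    haveI : Nontrivial U := (Subgroup.nontrivial_iff_ne_bot U).mpr hUne
    rw [← U.card_mul_index]
    exact lt_mul_of_one_lt_left (Nat.pos_of_ne_zero Subgroup.index_ne_zero_of_finite)
      Finite.one_lt_card
  refine (ih _ hlt (X ⧸ U) γ rfl (fun q => ?_) hOq).trans
    (le_trans ?_ (index_fix_mul_le A U hU))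
  · induction q using QuotientGroup.induction_on with
    | H v => rw [← QuotientGroup.mk_pow, hX v, QuotientGroup.mk_one]
  · exact Nat.le_mul_of_pos_left _ (Nat.pos_of_ne_zero (relIndex_ne_zero' _ _))

/-- Two sections moved by `O`. -/
theorem Min.bound_two (h : Min S M) {α : L →* MulAut X} (hX : ∀ v : X, v ^ 2 = 1) {U : Subgroup X}
    (hU : ∀ g : L, ∀ u ∈ U, α g u ∈ U) (hO1 : ∃ x ∈ oddGen L, ∃ u ∈ U, α x u ≠ u)
    (hO2 : ∃ x ∈ oddGen L, ∃ v : X, α x v / v ∉ U) {A : Subgroup L} (hAS : A ≤ (S : Subgroup L))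
    (hA : Cfsg.IsElementaryAbelian 2 A) :
    ((Cfsg.pCore 2 L).relIndex A) ^ 4 ≤ (fixOf α A).index := by
  obtain ⟨x, hx, u, hu, hne⟩ := hO1
  have h1 := h.bound_any hAS hA _ U (restrictAct α U hU) rfl
    (fun w => Subtype.ext (by rw [SubmonoidClass.coe_pow]; exact hX _))
    ⟨x, hx, fun e => hne (congrArg Subtype.val (DFunLike.congr_fun e (⟨u, hu⟩ : U)))⟩
  obtain ⟨x, hx, v, hne⟩ := hO2
  have h2 := h.bound_any hAS hA _ (X ⧸ U) (quotientAct α U hU) rfl (fun q => by
    induction q using QuotientGroup.induction_on with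
    | H w => rw [← QuotientGroup.mk_pow, hX w, QuotientGroup.mk_one])
    ⟨x, hx, fun e => hne (by
      have := DFunLike.congr_fun e (v : X ⧸ U)
      rwa [quotientAct_mk, MulAut.one_apply, QuotientGroup.eq_iff_div_mem] at this)⟩
  rw [index_restrictAct] at h1
  calc _ = ((Cfsg.pCore 2 L).relIndex A) ^ 2 * ((Cfsg.pCore 2 L).relIndex A) ^ 2 := by ring
    _ ≤ _ := Nat.mul_le_mul h1 h2
    _ ≤ _ := index_fix_mul_le A U hU

end Cfsg.Agent.Block.SFour
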