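import Cfsg.Agent.Lib.Block.SFourFree.Setup

/-!
Elementary abelian subgroups of `O₂(L)` with the squared bound are centralised.
-/

set_option autoImplicit false
set_option linter.unusedSectionVars false
set_option linter.style.haveILetI false

namespace Cfsg.Agent.Block.SFour

open Subgroup Cfsg.Agent.Invol
open scoped Pointwise commutatorElement IsMulCommutative

universe u

variable {L : Type u} [Group L] [Finite L]

/-- The normal closure of the Thompson subgroup of `S`. -/
def jClosure (S : Sylow 2 L) : Subgroup L :=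
  normalClosure (Cfsg.thompsonSubgroupOf 2 (S : Subgroup L) : Set L)

instance jClosure_normal (S : Sylow 2 L) : (jClosure S).Normal := Subgroup.normalClosure_normal

/-- `O₂(L) ∩ ⟨J^L⟩`. -/
def qZero (S : Sylow 2 L) : Subgroup L := Cfsg.pCore 2 L ⊓ jClosure S

instance qZero_normal (S : Sylow 2 L) : (qZero S).Normal := by
  haveI : (Cfsg.pCore 2 L).Normal := Grp.pCore_isNormal
  unfold qZero; infer_instance

/-- `J(S) (O₂(L) ∩ ⟨J^L⟩)`. -/
def bigE (S : Sylow 2 L) : Subgroup L :=
  Cfsg.thompsonSubgroupOf 2 (S : Subgroup L) ⊔ qZero S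

theorem thompson_le_jClosure (S : Sylow 2 L) :
    Cfsg.thompsonSubgroupOf 2 (S : Subgroup L) ≤ jClosure S := Subgroup.le_normalClosure

theorem bigE_le_jClosure (S : Sylow 2 L) : bigE S ≤ jClosure S :=
  sup_le (thompson_le_jClosure S) inf_le_right

theorem bigE_inf_le (S : Sylow 2 L) : bigE S ⊓ Cfsg.pCore 2 L ≤ qZero S :=
  le_inf inf_le_right (inf_le_left.trans (bigE_le_jClosure S))

theorem bigE_le (S : Sylow 2 L) : bigE S ≤ (S : Subgroup L) := by
  haveI : Fact (Nat.Prime 2) := ⟨Nat.prime_two⟩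
  exact sup_le (thompsonEl_le _) (inf_le_left.trans (Grp.pCore_le_sylow S))

theorem sylow_le_normalizer_thompson (S : Sylow 2 L) :
    (S : Subgroup L) ≤ normalizer (Cfsg.thompsonSubgroupOf 2 (S : Subgroup L) : Set L) :=
  Subgroup.le_normalizer.trans (normalizer_le_thompson _)

theorem centralizer_sup (X Y : Subgroup L) :
    centralizer ((X ⊔ Y : Subgroup L) : Set L) = centralizer (X : Set L) ⊓ centralizer (Y : Set L) :=
  le_antisymm (le_inf (Subgroup.centralizer_le (SetLike.coe_subset_coe.mpr le_sup_left))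
    (Subgroup.centralizer_le (SetLike.coe_subset_coe.mpr le_sup_right)))
    (Subgroup.le_centralizer_iff.mpr (sup_le (Subgroup.le_centralizer_iff.mp inf_le_left)
      (Subgroup.le_centralizer_iff.mp inf_le_right)))

theorem index_le_two {G : Type*} [Group G] {H : Subgroup G}
    (h : ∀ a b : G, a ∉ H → b ∉ H → a * b ∈ H) : H.index ≤ 2 := by
  by_cases ht : H = ⊤
  · rw [ht, Subgroup.index_top]; omega
  obtain ⟨a, -, ha⟩ := SetLike.exists_of_lt (lt_top_iff_ne_top.mpr ht)
  refine le_of_eq (Subgroup.index_eq_two_iff.mpr ⟨a, fun b => ?_⟩)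
  by_cases hb : b ∈ H
  · exact Or.inr ⟨hb, fun hba => ha (by simpa using H.mul_mem (H.inv_mem hb) hba)⟩
  · exact Or.inl ⟨h b a hb ha, hb⟩

variable {S : Sylow 2 L} {M : Subgroup L}

theorem Min.oddGen_le_jClosure (h : Min S M) : oddGen L ≤ jClosure S := by
  refine (h.dichotomy (jClosure S)).resolve_right fun hle => h.sylow_ne ?_
  exact le_trans (le_inf (thompsonEl_le _) (thompson_le_jClosure S)) hle

theorem Min.moved_le_qZero (h : Min S M) : moved L ≤ qZero S :=
  le_inf moved_le_pCore (moved_le_oddGen.trans h.oddGen_le_jClosure)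

theorem maxEl_inf_le_qZero {A : Subgroup L} (hA : IsMaxEl 2 (S : Subgroup L) A) :
    A ⊓ Cfsg.pCore 2 L ≤ qZero S :=
  le_inf inf_le_right (inf_le_left.trans (hA.le_thompsonEl.trans (thompson_le_jClosure S)))

/-- A subgroup fixed by `O` and by `J` is centralised by the whole closure of `J`. -/
theorem Min.le_centralizer_of_fixed (h : Min S M) {V : Subgroup L}
    (hO : oddGen L ≤ centralizer (V : Set L))
    (hJ : Cfsg.thompsonSubgroupOf 2 (S : Subgroup L) ≤ centralizer (V : Set L)) :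
    jClosure S ≤ centralizer (V : Set L) := by
  haveI : Fact (Nat.Prime 2) := ⟨Nat.prime_two⟩
  refine (Subgroup.closure_le _).mpr fun x hx => ?_
  obtain ⟨j, hj, hjx⟩ := Group.mem_conjugatesOfSet_iff.mp hx
  obtain ⟨g, rfl⟩ := isConj_iff.mp hjx
  obtain ⟨o, ho, s, hs, rfl⟩ := Subgroup.mem_sup_of_normal_left.mp
    (show g ∈ oddGen L ⊔ (S : Subgroup L) by rw [Invol.pResidual_sup_sylow]; trivial)
  have hj' : s * j * s⁻¹ ∈ Cfsg.thompsonSubgroupOf 2 (S : Subgroup L) :=
    Grp.mem_conj_normalizer (sylow_le_normalizer_thompson S hs) hj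
  have := mul_mem (mul_mem (hO ho) (hJ hj')) (inv_mem (hO ho))
  rw [show o * s * j * (o * s)⁻¹ = o * (s * j * s⁻¹) * o⁻¹ by group]
  exact this

set_option maxHeartbeats 1600000 in
/-- The case of a subgroup inside `O₂(L)`. -/
theorem Min.small_case (h : Min S M) {V : Subgroup L} (hV : Cfsg.IsElementaryAbelian 2 V)
    (hVQ : V ≤ qZero S) (hTV : bigE S ≤ normalizer (V : Set L))
    (hJV : Cfsg.thompsonSubgroupOf 2 (S : Subgroup L) ≤ centralizer (V : Set L))
    (hR : ∀ R ≤ qZero S, ElemImage R V →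
      ((centralizer (V : Set L)).relIndex R) ^ 2 ≤ (centralizer (R : Set L)).relIndex V) :
    bigE S ≤ centralizer (V : Set L) := by
  classical
  haveI : Fact (Nat.Prime 2) := ⟨Nat.prime_two⟩
  have := Fintype.ofFinite L
  haveI : (Cfsg.pCore 2 L).Normal := Grp.pCore_isNormal
  set Q₀ := qZero S with hQ₀
  have hQ₀S : Q₀ ≤ (S : Subgroup L) := le_trans le_sup_right (bigE_le S)
  let c : L → Subgroup L := fun g => V.map (MulAut.conj g).toMonoidHom
  have hc : ∀ g, c g = V.map (MulAut.conj g).toMonoidHom := fun g => rfl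
  have hcQ : ∀ g, c g ≤ Q₀ := by
    rintro g _ ⟨v, hv, rfl⟩
    exact (qZero_normal S).conj_mem v (hVQ hv) g
  have hcinj : ∀ g : L, Function.Injective (MulAut.conj g).toMonoidHom :=
    fun g => (MulAut.conj g).injective
  have hb : ∀ g, ∀ R ≤ Q₀, ElemImage R (c g) →
      ((centralizer (c g : Set L)).relIndex R) ^ 2 ≤ (centralizer (R : Set L)).relIndex (c g) := by
    intro g R hRQ hel
    have hR' : R = (R.map (MulAut.conj g⁻¹).toMonoidHom).map (MulAut.conj g).toMonoidHom := by
      rw [Subgroup.map_map]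
      ext x
      simp [mul_assoc]
    set R' := R.map (MulAut.conj g⁻¹).toMonoidHom with hR'def
    have hR'Q : R' ≤ Q₀ := by
      rintro _ ⟨r, hr, rfl⟩
      exact (qZero_normal S).conj_mem r (hRQ hr) g⁻¹
    rw [hR', hc, elemImage_map (hcinj g)] at hel
    rw [hR', hc, relIndex_centralizer_map (hcinj g), relIndex_centralizer_map (hcinj g)]
    exact hR R' hR'Q hel
  have hone : c 1 = V := by rw [hc]; ext x; simp
  -- conjugates commute
  have hcomm1 : ∀ g, c g ≤ centralizer (V : Set L) := by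
    intro g
    have h1 := hR (c g) (hcQ g) (elemImage_of_isEl (isEl_map hV _))
    have h2 := hb g V hVQ (elemImage_of_isEl hV)
    have h3 : (centralizer (V : Set L)).relIndex (c g) ≤ 1 := by
      set e := (centralizer (V : Set L)).relIndex (c g)
      set f := (centralizer (c g : Set L)).relIndex V
      have h4 : (e ^ 2) ^ 2 ≤ e := (Nat.pow_le_pow_left h1 2).trans h2
      rcases Nat.lt_or_ge e 2 with h5 | h5
      · omega
      · have : e < (e ^ 2) ^ 2 := by
          rw [← pow_mul]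
          calc e = e ^ 1 := (pow_one e).symm
            _ < e ^ (2 * 2) := Nat.pow_lt_pow_right (by omega) (by norm_num)
        omega
    exact Subgroup.relIndex_eq_one.mp
      (le_antisymm h3 (Nat.one_le_iff_ne_zero.mpr (relIndex_ne_zero' _ _)))
  set W := ⨆ g, c g with hW
  have hcW : ∀ g, c g ≤ W := fun g => le_iSup c g
  have hVW : V ≤ W := hone ▸ hcW 1
  have hWQ : W ≤ Q₀ := iSup_le hcQ
  have hWel : Cfsg.IsElementaryAbelian 2 W := by
    rw [hW, Subgroup.iSup_eq_closure]
    refine isEl_closure (fun x hx y hy => ?_) fun x hx => ?_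
    · obtain ⟨g, hxg⟩ := Set.mem_iUnion.mp hx
      obtain ⟨k, hyk⟩ := Set.mem_iUnion.mp hy
      obtain ⟨v, hv, rfl⟩ := hxg
      obtain ⟨w, hw, rfl⟩ := hyk
      have h1 := Subgroup.mem_centralizer_iff.mp (hcomm1 (g⁻¹ * k) ⟨w, hw, rfl⟩) v hv
      show g * v * g⁻¹ * (k * w * k⁻¹) = k * w * k⁻¹ * (g * v * g⁻¹)
      calc g * v * g⁻¹ * (k * w * k⁻¹)
          = g * (v * (g⁻¹ * k * w * (g⁻¹ * k)⁻¹)) * g⁻¹ := by group
        _ = g * ((g⁻¹ * k * w * (g⁻¹ * k)⁻¹) * v) * g⁻¹ := congrArg (fun z => g * z * g⁻¹) h1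
        _ = _ := by group
    · obtain ⟨g, hxg⟩ := Set.mem_iUnion.mp hx
      exact (isEl_map hV (MulAut.conj g).toMonoidHom).2 x hxg
  have hWn : W.Normal := by
    refine ⟨fun x hx g => ?_⟩
    have : W ≤ W.comap (MulAut.conj g).toMonoidHom := iSup_le fun k => by
      rintro _ ⟨v, hv, rfl⟩
      exact hcW (g * k) ⟨v, hv, by simp [mul_assoc]⟩
    exact this hx
  by_cases hOV : oddGen L ≤ centralizer (V : Set L)
  · exact (bigE_le_jClosure S).trans (h.le_centralizer_of_fixed hOV hJV)
  exfalso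
  have hWS : W ≤ (S : Subgroup L) := hWQ.trans hQ₀S
  haveI := hWel.1
  set C := centralizer (W : Set L) with hC
  haveI hCn : C.Normal := by rw [hC]; infer_instance
  have hOC : ¬ oddGen L ≤ C := fun hle => hOV (hle.trans (Subgroup.centralizer_le hVW))
  have hX2 : ∀ v : W, v ^ 2 = 1 := fun v =>
    Subtype.ext (by rw [SubmonoidClass.coe_pow]; exact hWel.2 v v.2)
  obtain ⟨A, hA, hAQ⟩ := h.exists_maxEl
  set B := A ⊓ Cfsg.pCore 2 L with hB
  have hBQ₀ : B ≤ Q₀ := maxEl_inf_le_qZero hA
  have hAel : Cfsg.IsElementaryAbelian 2 A := isEl_iff.mpr hA.2.1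
  have hACB : C ⊓ A ≤ B := le_inf inf_le_right
    ((le_inf (inf_le_right.trans hA.1) inf_le_left).trans (h.sylow_inf_le_of_moved hOC))
  -- the chain
  have hchain : ∀ s : Finset L, ((centralizer ((s.sup c : Subgroup L) : Set L)).relIndex B) ^ 2 ≤
      (centralizer (B : Set L)).relIndex (s.sup c) := by
    intro s
    induction s using Finset.induction_on with
    | empty =>
      have : B ≤ centralizer ((⊥ : Subgroup L) : Set L) := fun b _ =>
        Subgroup.mem_centralizer_iff.mpr fun v hv => by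
          rw [SetLike.mem_coe, Subgroup.mem_bot] at hv; simp [hv]
      rw [Finset.sup_empty, Subgroup.relIndex_eq_one.mpr this, one_pow]
      exact Nat.one_le_iff_ne_zero.mpr (relIndex_ne_zero' _ _)
    | @insert g s hg ih =>
      rw [Finset.sup_insert]
      set Ws := s.sup c
      set B' := B ⊓ centralizer (Ws : Set L) with hB'
      have h1 : (centralizer ((c g ⊔ Ws : Subgroup L) : Set L)).relIndex B =
          (centralizer (c g : Set L)).relIndex B' * (centralizer (Ws : Set L)).relIndex B := by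
        rw [centralizer_sup, ← Subgroup.inf_relIndex_right (centralizer (c g : Set L)) B',
          show (centralizer (Ws : Set L)).relIndex B = B'.relIndex B from by
            rw [hB', inf_comm, Subgroup.inf_relIndex_right],
          Subgroup.relIndex_mul_relIndex _ B' B inf_le_right inf_le_left,
          ← Subgroup.inf_relIndex_right _ B]
        congr 1
        rw [hB', inf_comm B, inf_assoc]
      have h2 := hb g B' (inf_le_left.trans hBQ₀)
        (elemImage_of_isEl (isEl_mono hAel (inf_le_left.trans inf_le_left)))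
      have h3 : (centralizer (B : Set L)).relIndex Ws * (centralizer (B' : Set L)).relIndex (c g) ≤
          (centralizer (B : Set L)).relIndex (c g ⊔ Ws) :=
        relIndex_mul_le (Subgroup.centralizer_le inf_le_left)
          (Subgroup.le_centralizer_iff.mp inf_le_right) le_sup_right le_sup_left
      rw [h1, mul_pow]
      calc _ ≤ (centralizer (B' : Set L)).relIndex (c g) * (centralizer (B : Set L)).relIndex Ws :=
            Nat.mul_le_mul h2 ih
        _ ≤ _ := by rw [mul_comm]; exact h3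
  have hsup : Finset.univ.sup c = W := Finset.sup_univ_eq_iSup c
  set α : L →* MulAut W := MulAut.conjNormal
  set nA := (Cfsg.pCore 2 L).relIndex A with hnA
  set nB := C.relIndex B with hnB
  set cA := (centralizer (A : Set L)).relIndex W with hcA
  set cB := (centralizer (B : Set L)).relIndex W with hcB
  have hnB2 : nB ^ 2 ≤ cB := by have := hchain Finset.univ; rwa [hsup] at this
  have hcBA : cB ≤ cA := by
    refine Nat.le_of_dvd (Nat.pos_of_ne_zero (relIndex_ne_zero' _ _))
      (Subgroup.relIndex_dvd_of_le_left _ (Subgroup.centralizer_le inf_le_left))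
  have hcA1 : cA ≤ nA * nB := by
    refine (weight hA hWS hWel).trans (le_of_eq ?_)
    rw [← Subgroup.inf_relIndex_right C A, ← Subgroup.relIndex_mul_relIndex _ B A hACB inf_le_left,
      mul_comm, hnA, hnB]
    congr 1
    · rw [hB, inf_comm, Subgroup.inf_relIndex_right]
    · rw [← Subgroup.inf_relIndex_right C B, ← Subgroup.inf_relIndex_right (C ⊓ A) B]
      congr 1
      rw [inf_assoc, inf_eq_right.mpr (inf_le_left : B ≤ A)]
  have hnA2 : 2 ≤ nA := by
    have h1 := relIndex_ne_zero' (Cfsg.pCore 2 L) A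
    have h2 : nA ≠ 1 := fun e => hAQ (Subgroup.relIndex_eq_one.mp e)
    omega
  have hnB0 : nB ≠ 0 := relIndex_ne_zero' _ _
  -- (a)
  have hY : ¬ moved L ≤ C := by
    intro hY
    obtain ⟨x, hx, hxC⟩ := SetLike.not_le_iff_exists.mp hOC
    have h1 := h.bound_triv (α := α) hX2 (fun y hy => mem_centralizer_iff_conjNormal.mpr (hY hy))
      ⟨x, hx, fun e => hxC (mem_centralizer_iff_conjNormal.mp e)⟩ hA.1 hAel
    have h2 : (fixOf α A).relIndex (fixOf α (Cfsg.pCore 2 L)) * (fixOf α B).relIndex ⊤ ≤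
        (fixOf α A).relIndex ⊤ :=
      relIndex_mul_le (fixOf_anti inf_le_left) (fixOf_anti inf_le_right) le_top le_rfl
    rw [Subgroup.relIndex_top_right, Subgroup.relIndex_top_right, index_fixOf_conjNormal,
      index_fixOf_conjNormal] at h2
    have h3 : nA ^ 2 * cB ≤ cA := (Nat.mul_le_mul_right _ h1).trans h2
    have h4 : (nA * nB) * (nA * nB) ≤ 1 * (nA * nB) := by
      calc (nA * nB) * (nA * nB) = nA ^ 2 * nB ^ 2 := by ring
        _ ≤ nA ^ 2 * cB := Nat.mul_le_mul_left _ hnB2
        _ ≤ 1 * (nA * nB) := by rw [one_mul]; exact h3.trans hcA1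
    have h5 := Nat.le_of_mul_le_mul_right h4 (Nat.mul_pos (by omega) (Nat.pos_of_ne_zero hnB0))
    have h6 : 2 * 1 ≤ nA * nB := Nat.mul_le_mul hnA2 (Nat.one_le_iff_ne_zero.mpr hnB0)
    omega
  -- (b)
  have htwo : ∀ U : Subgroup L, U.Normal → U ≤ W → (∃ x ∈ oddGen L, ∃ w ∈ W, ⁅x, w⁆ ∉ U) →
      oddGen L ≤ centralizer (U : Set L) := by
    intro U hUn hUW hmov
    by_contra hne
    obtain ⟨x, hx, hxU⟩ := SetLike.not_le_iff_exists.mp hne
    rw [Subgroup.mem_centralizer_iff] at hxU
    push Not at hxU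
    obtain ⟨u, hu, hxu⟩ := hxU
    obtain ⟨y, hy, w, hw, hyw⟩ := hmov
    have hUinv : ∀ g : L, ∀ v ∈ U.subgroupOf W, α g v ∈ U.subgroupOf W := fun g v hv => by
      rw [Subgroup.mem_subgroupOf, MulAut.conjNormal_apply]
      exact hUn.conj_mem _ hv g
    have h1 := h.bound_two (α := α) hX2 hUinv
      ⟨x, hx, ⟨u, hUW hu⟩, hu, fun e => hxu (by
        have := congrArg Subtype.val e
        rw [MulAut.conjNormal_apply] at this
        exact (mul_inv_eq_iff_eq_mul.mp this).symm)⟩
      ⟨y, hy, ⟨w, hw⟩, fun e => hyw (by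
        rw [Subgroup.mem_subgroupOf, Subgroup.coe_div, MulAut.conjNormal_apply, div_eq_mul_inv] at e
        rw [commutatorElement_def]
        exact e)⟩ hA.1 hAel
    rw [index_fixOf_conjNormal, ← hnA, ← hcA] at h1
    have h2 : nB ≤ nA := by
      have : nB * nB ≤ nA * nB := by rw [← pow_two]; exact (hnB2.trans hcBA).trans hcA1
      exact Nat.le_of_mul_le_mul_right this (Nat.pos_of_ne_zero hnB0)
    have h3 : nA ^ 4 ≤ nA ^ 2 := by
      rw [pow_two]; exact h1.trans (hcA1.trans (Nat.mul_le_mul_left _ h2))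
    exact absurd h3 (not_le.mpr (Nat.pow_lt_pow_right (by omega) (by omega)))
  -- the commutator with `[Q, O]`
  set N := ⁅W, moved L⁆ with hN
  haveI := hWn
  haveI hNn : N.Normal := inferInstance
  have hNW : N ≤ W := Subgroup.commutator_le_left _ _
  have hYS : moved L ≤ (S : Subgroup L) := moved_le_pCore.trans (Grp.pCore_le_sylow S)
  have hNmov : ∃ x ∈ oddGen L, ∃ w ∈ W, ⁅x, w⁆ ∉ N := by
    by_contra hcon
    push Not at hcon
    set V₁ := ⨆ s : (S : Subgroup L), c s with hV₁
    have hV₁S : V₁ ≤ (S : Subgroup L) := iSup_le fun s => (hcQ _).trans hQ₀S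
    have hV₁n : (S : Subgroup L) ≤ normalizer (V₁ : Set L) := by
      intro t ht
      have key : ∀ t ∈ (S : Subgroup L), V₁ ≤ V₁.comap (MulAut.conj t).toMonoidHom := fun t ht =>
        iSup_le fun s => by
          rintro _ ⟨v, hv, rfl⟩
          exact le_iSup (fun s : (S : Subgroup L) => c s) ⟨t * s, (S : Subgroup L).mul_mem ht s.2⟩
            ⟨v, hv, by simp [mul_assoc]⟩
      rw [Subgroup.mem_normalizer_iff]
      refine fun x => ⟨fun hx => key t ht hx, fun hx => ?_⟩
      have h1 := key t⁻¹ ((S : Subgroup L).inv_mem ht) hx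
      rw [Subgroup.mem_comap] at h1
      simpa [mul_assoc] using h1
    have hgen : W ≤ V₁ ⊔ ⁅W, (S : Subgroup L)⁆ := iSup_le fun g => by
      rintro _ ⟨v, hv, rfl⟩
      obtain ⟨o, ho, s, hs, rfl⟩ := Subgroup.mem_sup_of_normal_left.mp
        (show g ∈ oddGen L ⊔ (S : Subgroup L) by rw [Invol.pResidual_sup_sylow]; trivial)
      have hv' : s * v * s⁻¹ ∈ V₁ :=
        le_iSup (fun s : (S : Subgroup L) => c s) ⟨s, hs⟩ ⟨v, hv, rfl⟩
      have hv'W : s * v * s⁻¹ ∈ W := hWn.conj_mem v (hVW hv) s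
      show o * s * v * (o * s)⁻¹ ∈ _
      rw [show o * s * v * (o * s)⁻¹ = ⁅o, s * v * s⁻¹⁆ * (s * v * s⁻¹) by
        simp only [commutatorElement_def]; group]
      exact mul_mem (le_sup_right (a := V₁) (Subgroup.commutator_mono le_rfl hYS
        (hcon o ho _ hv'W))) (le_sup_left (b := ⁅W, (S : Subgroup L)⁆) hv')
    have hWV₁ := le_of_le_sup_commutator S.isPGroup' hV₁S hV₁n hWS hgen
    have hJW : Cfsg.thompsonSubgroupOf 2 (S : Subgroup L) ≤ C := by
      rw [hC, Subgroup.le_centralizer_iff]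
      refine hWV₁.trans (iSup_le fun s => ?_)
      rintro _ ⟨v, hv, rfl⟩
      rw [Subgroup.mem_centralizer_iff]
      intro j hj
      have h1 := Subgroup.mem_centralizer_iff.mp
        (hJV (Grp.mem_conj_normalizer (sylow_le_normalizer_thompson S ((S : Subgroup L).inv_mem s.2)) hj))
        v hv
      show j * ((s : L) * v * (s : L)⁻¹) = (s : L) * v * (s : L)⁻¹ * j
      calc j * ((s : L) * v * (s : L)⁻¹)
          = (s : L) * (((s : L)⁻¹ * j * (s : L)⁻¹⁻¹) * v) * (s : L)⁻¹ := by group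
        _ = (s : L) * (v * ((s : L)⁻¹ * j * (s : L)⁻¹⁻¹)) * (s : L)⁻¹ := by rw [h1]
        _ = _ := by group
    exact hOC (h.oddGen_le_jClosure.trans (Subgroup.normalClosure_le_normal hJW))
  have hON : oddGen L ≤ centralizer (N : Set L) := htwo N hNn hNW hNmov
  have hYN : moved L ≤ centralizer (N : Set L) := moved_le_oddGen.trans hON
  have hNbot : N ≠ ⊥ := fun e => hY (by
    rw [hN, Subgroup.commutator_comm, Subgroup.commutator_eq_bot_iff_le_centralizer] at e
    exact e)
  -- a hyperplane of `N` invariant in `L`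
  set N₂ := ⁅N, (S : Subgroup L)⁆
  have hN₂N : N₂ < N := by
    refine lt_of_le_not_ge (Subgroup.commutator_le_left _ _) fun hge => hNbot (le_bot_iff.mp ?_)
    exact le_of_le_sup_commutator S.isPGroup' bot_le
      (by rw [Subgroup.normalizer_eq_top]; exact le_top) (hNW.trans hWS) (by simpa using hge)
  obtain ⟨P₁, ⟨hP₁l, hP₁N⟩, hP₁max⟩ := Set.exists_max_image {P : Subgroup L | N₂ ≤ P ∧ P < N}
    (fun P => Nat.card P) (Set.toFinite _) ⟨N₂, le_rfl, hN₂N⟩
  haveI hP₁n : P₁.Normal := by
    refine ⟨fun p hp g => ?_⟩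
    obtain ⟨o, ho, s, hs, rfl⟩ := Subgroup.mem_sup_of_normal_left.mp
      (show g ∈ oddGen L ⊔ (S : Subgroup L) by rw [Invol.pResidual_sup_sylow]; trivial)
    have hpN := hP₁N.le hp
    have h1 : s * p * s⁻¹ ∈ P₁ := by
      rw [show s * p * s⁻¹ = ⁅p, s⁆⁻¹ * p by simp only [commutatorElement_def]; group]
      exact mul_mem (inv_mem (hP₁l (Subgroup.commutator_mem_commutator hpN hs))) hp
    rw [show o * s * p * (o * s)⁻¹ = o * (s * p * s⁻¹) * o⁻¹ by group,
      ← Subgroup.mem_centralizer_iff.mp (hON ho) _ (hP₁N.le h1), mul_inv_cancel_right]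
    exact h1
  have hNel : Cfsg.IsElementaryAbelian 2 N := isEl_mono hWel hNW
  have hP₁two : ∀ a ∈ N, ∀ b ∈ N, a ∉ P₁ → b ∉ P₁ → a * b ∈ P₁ := by
    intro a ha b hb haP hbP
    have htop : P₁ ⊔ zpowers a = N := by
      by_contra hne
      have hlt : P₁ ⊔ zpowers a < N :=
        lt_of_le_of_ne (sup_le hP₁N.le (zpowers_le.mpr ha)) hne
      have h1 := hP₁max _ ⟨hP₁l.trans le_sup_left, hlt⟩
      exact haP ((Subgroup.eq_of_le_of_card_ge le_sup_left h1).symm ▸
        le_sup_right (a := P₁) (mem_zpowers a))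
    have haa : a * a = 1 := by rw [← pow_two]; exact hNel.2 a ha
    rw [← htop] at hb
    obtain ⟨p, hp, z, hz, rfl⟩ := Subgroup.mem_sup_of_normal_left.mp hb
    obtain ⟨i, rfl⟩ := mem_zpowers_iff.mp hz
    rcases Int.even_or_odd i with ⟨j, hj⟩ | ⟨j, hj⟩
    · exact absurd (by rw [hj, ← two_mul, zpow_mul, zpow_two, haa, one_zpow, mul_one]; exact hp) hbP
    · rw [hj, zpow_add, zpow_mul, zpow_two, haa, one_zpow, one_mul, zpow_one, ← mul_assoc,
        (isEl_iff.mp hNel).1 a ha p (hP₁N.le hp), mul_assoc, haa, mul_one]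
      exact hp
  -- kernels of the pairing
  set f := QuotientGroup.mk' P₁ with hf
  let K : Subgroup L → Subgroup L := fun R => W ⊓ (centralizer (R.map f : Set (L ⧸ P₁))).comap f
  have hK : ∀ R w, w ∈ K R ↔ w ∈ W ∧ ∀ y ∈ R, ⁅w, y⁆ ∈ P₁ := by
    intro R w
    show w ∈ W ∧ f w ∈ centralizer (R.map f : Set (L ⧸ P₁)) ↔ _
    rw [Subgroup.mem_centralizer_iff]
    refine and_congr_right fun _ => ⟨fun h1 y hy => ?_, fun h1 => ?_⟩
    · rw [← QuotientGroup.eq_one_iff (N := P₁), ← QuotientGroup.mk'_apply, map_commutatorElement,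
        commutatorElement_eq_one_iff_mul_comm]
      exact (h1 _ ⟨y, hy, rfl⟩).symm
    · rintro _ ⟨y, hy, rfl⟩
      refine Eq.symm ?_
      rw [← commutatorElement_eq_one_iff_mul_comm, ← map_commutatorElement]
      exact (QuotientGroup.eq_one_iff _).mpr (h1 y hy)
  haveI : (K (moved L)).Normal := by
    haveI : ((moved L).map f).Normal :=
      (moved_normal (L := L)).map _ (QuotientGroup.mk'_surjective P₁)
    show (W ⊓ (centralizer ((moved L).map f : Set (L ⧸ P₁))).comap f).Normal
    infer_instance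
  have hKmov : ∃ x ∈ oddGen L, ∃ w ∈ W, ⁅x, w⁆ ∉ K (moved L) := by
    by_contra hcon
    push Not at hcon
    have h1 : ⁅⁅W.map f, (oddGen L).map f⁆, (moved L).map f⁆ = ⊥ := by
      rw [Subgroup.commutator_eq_bot_iff_le_centralizer, ← Subgroup.map_commutator,
        Subgroup.map_le_iff_le_comap, Subgroup.commutator_le]
      intro w hw x hx
      rw [← commutatorElement_inv]
      exact inv_mem (hcon x hx w hw).2
    have h2 : ⁅⁅(moved L).map f, W.map f⁆, (oddGen L).map f⁆ = ⊥ := by
      rw [← Subgroup.map_commutator, ← Subgroup.map_commutator, Subgroup.commutator_comm (moved L) W,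
        ← hN]
      rw [Subgroup.commutator_eq_bot_iff_le_centralizer.mpr ?_, Subgroup.map_bot]
      exact Subgroup.le_centralizer_iff.mp hON
    have h3 := Subgroup.commutator_commutator_eq_bot_of_rotate h2 h1
    rw [← Subgroup.map_commutator, Subgroup.commutator_comm (oddGen L), h.moved_commutator,
      ← Subgroup.map_commutator, Subgroup.commutator_comm, ← hN, Subgroup.map_eq_bot_iff,
      hf, QuotientGroup.ker_mk'] at h3
    exact hP₁N.not_ge h3
  have hKC : K (moved L) ≤ centralizer (moved L : Set L) :=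
    Subgroup.le_centralizer_iff.mp (moved_le_oddGen.trans
      (htwo (K (moved L)) inferInstance inf_le_left hKmov))
  -- quadratic action
  have hquad : ∀ y ∈ moved L, ∀ w ∈ W, ⁅y, w⁆ ∈ N := fun y hy w hw => by
    rw [hN, Subgroup.commutator_comm]; exact Subgroup.commutator_mem_commutator hy hw
  have hfix : ∀ y ∈ moved L, ∀ n ∈ N, y * n * y⁻¹ = n := fun y hy n hn => by
    rw [← Subgroup.mem_centralizer_iff.mp (hYN hy) n hn, mul_inv_cancel_right]
  have htrans : ∀ y ∈ moved L, ∀ z ∈ moved L, ∀ w ∈ W,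
      y * z * w * (y * z)⁻¹ = ⁅z, w⁆ * ⁅y, w⁆ * w := by
    intro y hy z hz w hw
    calc y * z * w * (y * z)⁻¹ = y * ⁅z, w⁆ * y⁻¹ * (⁅y, w⁆ * w) := by
          simp only [commutatorElement_def]; group
      _ = _ := by rw [hfix y hy _ (hquad z hz w hw), mul_assoc]
  have hYel : ElemImage (moved L) V := by
    refine ⟨fun y hy => Subgroup.mem_centralizer_iff.mpr fun w hw => ?_,
      fun y hy z hz => Subgroup.mem_centralizer_iff.mpr fun w hw => ?_⟩
    · have h1 := htrans y hy y hy w (hVW hw)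
      rw [← pow_two ⁅y, w⁆, hNel.2 _ (hquad y hy w (hVW hw)), one_mul, ← pow_two,
        mul_inv_eq_iff_eq_mul] at h1
      exact h1.symm
    · have h2 : ∀ y ∈ moved L, ∀ z ∈ moved L, y * z * w * (y * z)⁻¹ = z * y * w * (z * y)⁻¹ := by
        intro y hy z hz
        rw [htrans y hy z hz w (hVW hw), htrans z hz y hy w (hVW hw),
          (isEl_iff.mp hNel).1 _ (hquad z hz w (hVW hw)) _ (hquad y hy w (hVW hw))]
      have h4 := h2 y⁻¹ (inv_mem hy) z⁻¹ (inv_mem hz)
      rw [commutatorElement_def]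
      calc w * (y * z * y⁻¹ * z⁻¹)
          = (y * z) * ((z⁻¹ * y⁻¹) * w * (z⁻¹ * y⁻¹)⁻¹) * (z * y)⁻¹ := by group
        _ = (y * z) * ((y⁻¹ * z⁻¹) * w * (y⁻¹ * z⁻¹)⁻¹) * (z * y)⁻¹ := by rw [h4]
        _ = y * z * y⁻¹ * z⁻¹ * w := by group
  -- counting
  have hcount : ∀ (n : ℕ) (R : Subgroup L), Nat.card R = n → R ≤ moved L →
      (K R).relIndex V ≤ (centralizer (V : Set L)).relIndex R := by
    intro n
    induction n using Nat.strong_induction_on with
    | _ n ih =>
    intro R hn hRY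
    by_cases hRC : R ≤ centralizer (V : Set L)
    · have : V ≤ K R := fun v hv => (hK R v).mpr ⟨hVW hv, fun y hy => by
        rw [commutatorElement_eq_one_iff_mul_comm.mpr (Subgroup.mem_centralizer_iff.mp (hRC hy) v hv)]
        exact one_mem _⟩
      rw [Subgroup.relIndex_eq_one.mpr this]
      exact Nat.one_le_iff_ne_zero.mpr (relIndex_ne_zero' _ _)
    obtain ⟨R₀, ⟨hCR₀, hR₀R⟩, hmax⟩ := Set.exists_max_image
      {R₀ : Subgroup L | centralizer (V : Set L) ⊓ R ≤ R₀ ∧ R₀ < R} (fun P => Nat.card P)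
      (Set.toFinite _) ⟨_, le_rfl, lt_of_le_not_ge inf_le_right fun hle => hRC (hle.trans inf_le_left)⟩
    obtain ⟨y, hyR, hyR₀⟩ := SetLike.exists_of_lt hR₀R
    have htop : R₀ ⊔ zpowers y = R := by
      by_contra hne
      have h1 := hmax _ ⟨hCR₀.trans le_sup_left,
        lt_of_le_of_ne (sup_le hR₀R.le (zpowers_le.mpr hyR)) hne⟩
      exact hyR₀ ((Subgroup.eq_of_le_of_card_ge le_sup_left h1).symm ▸
        le_sup_right (a := R₀) (mem_zpowers y))
    have hcardlt : Nat.card R₀ < n := by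
      rw [← hn]
      by_contra hge
      exact hR₀R.ne (Subgroup.eq_of_le_of_card_ge hR₀R.le (not_lt.mp hge))
    have hKle : K R₀ ⊓ K (zpowers y) ≤ K R := by
      rw [← htop]
      show _ ≤ W ⊓ (centralizer (((R₀ ⊔ zpowers y).map f : Subgroup (L ⧸ P₁)) : Set (L ⧸ P₁))).comap f
      refine le_inf (inf_le_left.trans inf_le_left) fun w hw => ?_
      rw [Subgroup.mem_comap]
      exact (Subgroup.le_centralizer_iff.mp (by
        rw [Subgroup.map_sup]
        refine sup_le ?_ ?_
        · exact Subgroup.le_centralizer_iff.mp (zpowers_le.mpr hw.1.2)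
        · exact Subgroup.le_centralizer_iff.mp (zpowers_le.mpr hw.2.2)) : _ ≤ _) (mem_zpowers (f w))
    have h2 : (K (zpowers y)).relIndex V ≤ 2 := by
      have hKz : ∀ v : V, ((v : L) ∈ K (zpowers y) ↔ ⁅(v : L), y⁆ ∈ P₁) := fun v => by
        rw [hK]
        refine ⟨fun h1 => h1.2 y (mem_zpowers y), fun h1 => ⟨hVW v.2, fun z hz => ?_⟩⟩
        obtain ⟨i, rfl⟩ := mem_zpowers_iff.mp hz
        rw [← QuotientGroup.eq_one_iff (N := P₁), ← QuotientGroup.mk'_apply, map_commutatorElement,
          commutatorElement_eq_one_iff_mul_comm] at h1 ⊢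
        rw [map_zpow]
        exact ((show Commute _ _ from h1).zpow_right i).eq
      refine index_le_two fun a b ha hb => ?_
      rw [Subgroup.mem_subgroupOf, hKz] at ha hb ⊢
      have hmemN : ∀ v : V, ⁅(v : L), y⁆ ∈ N := fun v =>
        Subgroup.commutator_mem_commutator (hVW v.2) (hRY hyR)
      rw [show ⁅((a * b : V) : L), y⁆ = ⁅(b : L), y⁆ * ⁅(a : L), y⁆ by
        show ⁅(a : L) * b, y⁆ = _
        rw [commutatorElement_mul_left_eq_conj_mul,
          (isEl_iff.mp hWel).1 _ (hVW a.2) _ (hNW (hmemN b)), mul_inv_cancel_right]]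
      exact hP₁two _ (hmemN b) _ (hmemN a) hb ha
    have h3 : 2 ≤ R₀.relIndex R := by
      have h0 := relIndex_ne_zero' R₀ R
      have h1 : R₀.relIndex R ≠ 1 := fun e => hR₀R.not_ge (Subgroup.relIndex_eq_one.mp e)
      omega
    calc (K R).relIndex V ≤ (K R₀ ⊓ K (zpowers y)).relIndex V :=
          Nat.le_of_dvd (Nat.pos_of_ne_zero (relIndex_ne_zero' _ _))
            (Subgroup.relIndex_dvd_of_le_left _ hKle)
      _ ≤ (K R₀).relIndex V * (K (zpowers y)).relIndex V := by
          exact Subgroup.relIndex_inf_le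
      _ ≤ (centralizer (V : Set L)).relIndex R₀ * 2 :=
          Nat.mul_le_mul (ih _ hcardlt R₀ rfl (hR₀R.le.trans hRY)) h2
      _ ≤ (centralizer (V : Set L)).relIndex R₀ * R₀.relIndex R := Nat.mul_le_mul_left _ h3
      _ = (centralizer (V : Set L)).relIndex R := by
          rw [← Subgroup.inf_relIndex_right _ R₀,
            Subgroup.relIndex_mul_relIndex _ R₀ R inf_le_right hR₀R.le,
            show centralizer (V : Set L) ⊓ R₀ = centralizer (V : Set L) ⊓ R from
              le_antisymm (inf_le_inf_left _ hR₀R.le) (le_inf inf_le_left hCR₀),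
            Subgroup.inf_relIndex_right]
  have h1 := hR (moved L) h.moved_le_qZero hYel
  have h2 := hcount _ (moved L) rfl le_rfl
  have h3 : (centralizer (moved L : Set L)).relIndex V ≤ (K (moved L)).relIndex V :=
    Nat.le_of_dvd (Nat.pos_of_ne_zero (relIndex_ne_zero' _ _))
      (Subgroup.relIndex_dvd_of_le_left _ hKC)
  have h4 := sq_le_self_imp (h1.trans (h3.trans h2))
  have h5 : moved L ≤ centralizer (V : Set L) := Subgroup.relIndex_eq_one.mp
    (le_antisymm h4 (Nat.one_le_iff_ne_zero.mpr (relIndex_ne_zero' _ _)))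
  refine hY ?_
  rw [hC, Subgroup.le_centralizer_iff]
  refine iSup_le fun g => ?_
  rintro _ ⟨v, hv, rfl⟩
  exact (inferInstance : (centralizer (moved L : Set L)).Normal).conj_mem v
    (Subgroup.le_centralizer_iff.mp h5 hv) g

end Cfsg.Agent.Block.SFour
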