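import Cfsg.Agent.Lib.Block.SFourFree.Basic
import Cfsg.Agent.Lib.Invol.PResidual

/-!
Factorisation of a solvable group of characteristic two through the centraliser of `Ω₁(Z(S))`.
-/

set_option autoImplicit false
set_option linter.unusedSectionVars false
set_option linter.style.haveILetI false

namespace Cfsg.Agent.Block.SFour

open Subgroup Cfsg.Agent.Invol
open scoped Pointwise commutatorElement IsMulCommutative

universe u

variable {L : Type u} [Group L] [Finite L]

theorem mem_centralizer_iff_conjNormal {X : Subgroup L} [X.Normal] [IsMulCommutative X] {g : L} :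
    (MulAut.conjNormal g : MulAut X) = 1 ↔ g ∈ centralizer (X : Set L) := by
  rw [Subgroup.mem_centralizer_iff]
  constructor
  · intro h v hv
    have := congrArg Subtype.val (DFunLike.congr_fun h (⟨v, hv⟩ : X))
    rw [MulAut.conjNormal_apply] at this
    exact (mul_inv_eq_iff_eq_mul.mp this).symm
  · intro h
    refine MulEquiv.ext fun v => Subtype.ext ?_
    rw [MulAut.conjNormal_apply, ← h v v.2, mul_inv_cancel_right]
    rfl

theorem card_map_conjNormal {X : Subgroup L} [X.Normal] [IsMulCommutative X] (A : Subgroup L) :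
    Nat.card (A.map (MulAut.conjNormal : L →* MulAut X)) = (centralizer (X : Set L)).relIndex A := by
  rw [← Subgroup.relIndex_ker]
  congr 1
  ext g
  rw [MonoidHom.mem_ker]
  exact mem_centralizer_iff_conjNormal

theorem fixOf_conjNormal {X : Subgroup L} [X.Normal] [IsMulCommutative X] (A : Subgroup L) :
    fixOf (MulAut.conjNormal : L →* MulAut X) A = (centralizer (A : Set L)).subgroupOf X := by
  ext v
  rw [Subgroup.mem_subgroupOf, Subgroup.mem_centralizer_iff, mem_fixOf]
  constructor
  · intro h a ha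
    have := congrArg Subtype.val (h a ha)
    rw [MulAut.conjNormal_apply] at this
    exact mul_inv_eq_iff_eq_mul.mp this
  · intro h a ha
    refine Subtype.ext ?_
    rw [MulAut.conjNormal_apply, h a ha, mul_inv_cancel_right]

theorem index_fixOf_conjNormal {X : Subgroup L} [X.Normal] [IsMulCommutative X] (A : Subgroup L) :
    (fixOf (MulAut.conjNormal : L →* MulAut X) A).index = (centralizer (A : Set L)).relIndex X := by
  rw [fixOf_conjNormal]; rfl

theorem elemImage_map_conjNormal {X : Subgroup L} [X.Normal] [IsMulCommutative X] {A : Subgroup L}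
    (hA : ElemImage A X) :
    Cfsg.IsElementaryAbelian 2 (A.map (MulAut.conjNormal : L →* MulAut X)) := by
  refine isEl_iff.mpr ⟨?_, ?_⟩
  · rintro _ ⟨a, ha, rfl⟩ _ ⟨b, hb, rfl⟩
    rw [← commutatorElement_eq_one_iff_mul_comm, ← map_commutatorElement]
    exact mem_centralizer_iff_conjNormal.mpr (hA.2 a ha b hb)
  · rintro _ ⟨a, ha, rfl⟩
    rw [← map_pow]
    exact mem_centralizer_iff_conjNormal.mpr (hA.1 a ha)

/-- A 2-subgroup normal in an image is covered by a Sylow subgroup. -/
theorem pCore_preimage {K : Type*} [Group K] [Finite K] (f : L →* K) (hf : Function.Surjective f)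
    (S : Sylow 2 L) {x : L} (hx : f x ∈ Cfsg.pCore 2 K) : ∃ s ∈ (S : Subgroup L), f s = f x := by
  haveI : Fact (Nat.Prime 2) := ⟨Nat.prime_two⟩
  have h := Grp.pCore_le_sylow (S.mapSurjective hf) hx
  rw [Sylow.coe_mapSurjective] at h
  exact Subgroup.mem_map.mp h

/-- The odd part of a group and a Sylow 2-subgroup of a normal subgroup. -/
theorem frattini_inf (S : Sylow 2 L) (N : Subgroup L) [N.Normal] :
    normalizer (((S : Subgroup L) ⊓ N : Subgroup L) : Set L) ⊔ N = ⊤ := by
  haveI : Fact (Nat.Prime 2) := ⟨Nat.prime_two⟩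
  have h : Grp.IsSylowIn 2 ((S : Subgroup L) ⊓ N) N := by
    refine ⟨inf_le_right, S.isPGroup'.to_le inf_le_left, ?_⟩
    rw [Subgroup.inf_relIndex_right]
    exact Grp.sylow_inf_normal_relIndex S N
  obtain ⟨P, hP⟩ := Grp.isSylowIn_iff.mp h
  rw [← hP]
  exact Sylow.normalizer_sup_eq_top P

/-- The hypotheses carried by the groups considered. -/
structure Local (L : Type u) [Group L] [Finite L] : Prop where
  solv : Group.IsSolvable L
  char2 : centralizer (Cfsg.pCore 2 L : Set L) ≤ Cfsg.pCore 2 L
  noThree : NoThree L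

/-- The hypotheses pass to subgroups containing a Sylow 2-subgroup. -/
theorem Local.overgroup (h : Local L) (S : Sylow 2 L) {K : Subgroup L} (hK : (S : Subgroup L) ≤ K) :
    Local K := by
  haveI : Fact (Nat.Prime 2) := ⟨Nat.prime_two⟩
  haveI := h.solv
  refine ⟨inferInstance, ?_, h.noThree.subgroup K⟩
  haveI hQn : (Cfsg.pCore 2 L).Normal := Grp.pCore_isNormal
  have hQK : Cfsg.pCore 2 L ≤ K := (Grp.pCore_le_sylow S).trans hK
  have hle : (Cfsg.pCore 2 L).subgroupOf K ≤ Cfsg.pCore 2 K :=
    Grp.le_pCore (hQn.subgroupOf K) (Grp.pCore_isPGroup.comap_subtype)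
  intro x hx
  refine hle (h.char2 (Subgroup.mem_centralizer_iff.mpr fun q hq => ?_))
  exact congrArg Subtype.val (Subgroup.mem_centralizer_iff.mp hx ⟨q, hQK hq⟩ (hle hq))

/-- The first factorisation. -/
theorem factor_one (h : Local L) (S : Sylow 2 L) (x : L) :
    ∃ c ∈ centralizer (omegaZ (S : Subgroup L) : Set L),
      ∃ d ∈ normalizer (Cfsg.thompsonSubgroupOf 2 (S : Subgroup L) : Set L) ⊓
          normalizer (jHat (S : Subgroup L) : Set L), x = c * d := by
  haveI : Fact (Nat.Prime 2) := ⟨Nat.prime_two⟩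
  haveI hQn : (Cfsg.pCore 2 L).Normal := Grp.pCore_isNormal
  set Q := Cfsg.pCore 2 L
  set Z := omegaZ (S : Subgroup L) with hZ
  set S' : Subgroup L := (S : Subgroup L) with hS'
  have hQS : Q ≤ S' := Grp.pCore_le_sylow S
  have hZQ : Z ≤ Q := fun z hz => h.char2
    (Subgroup.mem_centralizer_iff.mpr fun q hq => hz.2 q (hQS hq))
  haveI : (omegaZ Q).Normal := Subgroup.normalizer_eq_top_iff.mp (top_le_iff.mp
    (by rw [← Subgroup.normalizer_eq_top (H := Q)]; exact normalizer_le_omegaZ Q))
  set X := normalClosure (Z : Set L) with hX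
  have hXle : X ≤ omegaZ Q := Subgroup.normalClosure_le_normal fun z hz =>
    ⟨⟨hZQ hz, hz.1.2⟩, fun q hq => hz.2 q (hQS hq)⟩
  have hZX : Z ≤ X := Subgroup.le_normalClosure
  have hXel : Cfsg.IsElementaryAbelian 2 X := isEl_mono (isEl_omegaZ Q) hXle
  have hXS : X ≤ S' := hXle.trans ((omegaZ_le Q).trans hQS)
  haveI := hXel.1
  haveI : X.Normal := Subgroup.normalClosure_normal
  set C := centralizer (X : Set L) with hC
  -- the action is reduced
  have hred : Cfsg.pCore 2 (MulAut.conjNormal : L →* MulAut X).range = ⊥ := by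
    set α : L →* MulAut X := MulAut.conjNormal
    rw [Subgroup.eq_bot_iff_forall]
    intro y hy
    obtain ⟨x, rfl⟩ := α.rangeRestrict_surjective y
    set P := (Cfsg.pCore 2 α.range).comap α.rangeRestrict with hP
    haveI : (Cfsg.pCore 2 α.range).Normal := Grp.pCore_isNormal
    haveI : P.Normal := (inferInstance : (Cfsg.pCore 2 α.range).Normal).comap _
    have hPZ : P ≤ centralizer (Z : Set L) := by
      intro p hp
      obtain ⟨s, hs, hsp⟩ := pCore_preimage α.rangeRestrict α.rangeRestrict_surjective S hp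
      have hsp' : α (s⁻¹ * p) = 1 := by
        have := congrArg Subtype.val hsp
        rw [map_mul, map_inv, inv_mul_eq_one]; exact this
      have h1 : s⁻¹ * p ∈ centralizer (Z : Set L) :=
        Subgroup.centralizer_le hZX (mem_centralizer_iff_conjNormal.mp hsp')
      have := mul_mem (le_centralizer_omegaZ S' hs) h1
      rwa [mul_inv_cancel_left] at this
    have hXP : X ≤ centralizer (P : Set L) :=
      Subgroup.normalClosure_le_normal fun z hz =>
        Subgroup.mem_centralizer_iff.mpr fun p hp =>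
          (Subgroup.mem_centralizer_iff.mp (hPZ hp) z hz).symm
    refine Subtype.ext ?_
    show α x = 1
    exact mem_centralizer_iff_conjNormal.mpr ((Subgroup.le_centralizer_iff.mp hXP) hy)
  have hdom : ∀ R : Subgroup L, ElemImage R X →
      (C.relIndex R) ^ 2 ≤ (centralizer (R : Set L)).relIndex X := by
    intro R hR
    have := dom_act (α := (MulAut.conjNormal : L →* MulAut X))
      (fun v => Subtype.ext (by rw [SubmonoidClass.coe_pow]; exact hXel.2 v v.2)) h.noThree h.solv
      (elemImage_map_conjNormal hR) hred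
    rwa [card_map_conjNormal, index_fixOf_conjNormal] at this
  obtain ⟨A, hA⟩ := JComp.exists_maxEl S'
  have hXA : X ≤ A := fun v hv => hA.mem_of_commute (hXS hv) (hXel.2 v hv) fun a ha =>
    (Subgroup.mem_centralizer_iff.mp (maxEl_centralizes hA hXS hXel
      (hdom A (elemImage_of_isEl (isEl_iff.mpr hA.2.1))) ha) v hv).symm
  have hJC : jHat S' ≤ C := sSup_le fun T hT => hT.2.2 X hXel
    (hXA.trans (hA.le_thompsonEl.trans hT.2.1))
    (by rw [Subgroup.normalizer_eq_top]; exact le_top) fun R _ hR => hdom R hR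
  haveI : C.Normal := by rw [hC]; infer_instance
  set R₀ := S' ⊓ C with hR₀
  have hR₀J : jHat R₀ = jHat S' := jHat_eq_of_between (le_inf (jHat_le S') hJC) inf_le_left
  have hR₀T : Cfsg.thompsonSubgroupOf 2 R₀ = Cfsg.thompsonSubgroupOf 2 S' :=
    JComp.thompson_eq_of_between (le_inf (thompsonEl_le S') ((thompson_le_jHat S').trans hJC))
      inf_le_left
  have hfr := frattini_inf S C
  have hx : x ∈ C ⊔ normalizer (R₀ : Set L) := by rw [sup_comm, hfr]; trivial
  obtain ⟨c, hc, d, hd, rfl⟩ := Subgroup.mem_sup_of_normal_left.mp hx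
  exact ⟨c, Subgroup.centralizer_le hZX hc, d,
    ⟨hR₀T ▸ normalizer_le_thompson R₀ hd, hR₀J ▸ normalizer_le_jHat R₀ hd⟩, rfl⟩

end Cfsg.Agent.Block.SFour
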