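import Cfsg.Agent.Lib.Block.SFourFree.LargeCase

/-!
A solvable group of characteristic two without inverted elements of order three is generated by the
normalisers of `Ω₁(Z(Ĵ(S)))` and of `J(S)`.
-/

set_option autoImplicit false
set_option linter.unusedSectionVars false
set_option linter.style.haveILetI false

namespace Cfsg.Agent.Block.SFour

open Subgroup Cfsg.Agent.Invol
open scoped Pointwise commutatorElement IsMulCommutative

universe u

variable {L : Type u} [Group L] [Finite L] {S : Sylow 2 L} {M : Subgroup L}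

theorem Min.isE_bigE (h : Min S M) : IsE (bigE S) := by
  intro V hV hVT hTV hR
  have hJV : Cfsg.thompsonSubgroupOf 2 (S : Subgroup L) ≤ centralizer (V : Set L) :=
    thompsonEl_le_of fun A hA => maxEl_centralizes hA (hVT.trans (bigE_le S)) hV
      (hR A (hA.le_thompsonEl.trans le_sup_left) (elemImage_of_isEl (isEl_iff.mpr hA.2.1)))
  have hR' : ∀ R ≤ qZero S, ElemImage R V →
      ((centralizer (V : Set L)).relIndex R) ^ 2 ≤ (centralizer (R : Set L)).relIndex V :=
    fun R hRQ => hR R (hRQ.trans le_sup_right)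
  have hVQ : V ≤ qZero S :=
    (le_inf hVT (h.large_case hV hVT hTV hR')).trans (bigE_inf_le S)
  exact h.small_case hV hVQ hTV hJV hR'

theorem Min.false (h : Min S M) : False := by
  haveI : Fact (Nat.Prime 2) := ⟨Nat.prime_two⟩
  set U := uHat (S : Subgroup L) with hU
  set Q := Cfsg.pCore 2 L
  have hTJ : bigE S ≤ jHat (S : Subgroup L) := le_jHat (bigE_le S) le_sup_left h.isE_bigE
  have hUT : ∀ x ∈ U, ∀ t ∈ bigE S, t * x = x * t := fun x hx t ht => hx.2 t (hTJ ht)
  have hUQ : U ≤ Q := fun x hx => h.centralizer_moved_le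
    (Subgroup.mem_centralizer_iff.mpr fun y hy =>
      hUT x hx y ((h.moved_le_qZero.trans le_sup_right) hy))
  have hUQ₀ : U ≤ qZero S :=
    le_inf hUQ ((uHat_le_thompson _).trans (thompson_le_jClosure S))
  haveI : (omegaZ (qZero S)).Normal := Subgroup.normalizer_eq_top_iff.mp (top_le_iff.mp
    (by rw [← Subgroup.normalizer_eq_top (H := qZero S)]; exact normalizer_le_omegaZ _))
  set W := normalClosure (U : Set L) with hW
  have hWle : W ≤ omegaZ (qZero S) := Subgroup.normalClosure_le_normal fun x hx =>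
    ⟨⟨hUQ₀ hx, hx.1.2⟩, fun t ht => hUT x hx t (le_sup_right (a := Cfsg.thompsonSubgroupOf 2 _) ht)⟩
  have hUW : U ≤ W := Subgroup.le_normalClosure
  have hWel : Cfsg.IsElementaryAbelian 2 W := isEl_mono (isEl_omegaZ _) hWle
  haveI : W.Normal := Subgroup.normalClosure_normal
  haveI := hWel.1
  have hWS : W ≤ (S : Subgroup L) :=
    hWle.trans ((omegaZ_le _).trans ((le_sup_right).trans (bigE_le S)))
  by_cases hOW : oddGen L ≤ centralizer (W : Set L)
  · refine h.ne_top (top_le_iff.mp (le_trans ?_ h.hU))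
    rw [← Invol.pResidual_sup_sylow S]
    exact sup_le
      (hOW.trans ((Subgroup.centralizer_le hUW).trans (Subgroup.centralizer_le_normalizer _)))
      (Subgroup.le_normalizer.trans ((normalizer_le_jHat _).trans (normalizer_jHat_le _)))
  · obtain ⟨A, hA, hAQ⟩ := h.exists_maxEl
    obtain ⟨x, hx, hxW⟩ := SetLike.not_le_iff_exists.mp hOW
    have hAel : Cfsg.IsElementaryAbelian 2 A := isEl_iff.mpr hA.2.1
    have h1 := h.bound_any hA.1 hAel _ W (MulAut.conjNormal : L →* MulAut W) rfl
      (fun v => Subtype.ext (by rw [SubmonoidClass.coe_pow]; exact hWel.2 v v.2))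
      ⟨x, hx, fun e => hxW (mem_centralizer_iff_conjNormal.mp e)⟩
    rw [index_fixOf_conjNormal] at h1
    have hBC : Q ⊓ A ≤ centralizer (W : Set L) := fun b hb =>
      Subgroup.mem_centralizer_iff.mpr fun w hw =>
        ((hWle hw).2 b (maxEl_inf_le_qZero hA ⟨hb.2, hb.1⟩)).symm
    have h2 : (centralizer (W : Set L)).relIndex A ≤ Q.relIndex A := by
      rw [← Subgroup.inf_relIndex_right Q A]
      exact Nat.le_of_dvd (Nat.pos_of_ne_zero (relIndex_ne_zero' _ _))
        (Subgroup.relIndex_dvd_of_le_left A hBC)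
    have h3 := sq_le_self_imp (h1.trans ((weight hA hWS hWel).trans h2))
    exact hAQ (Subgroup.relIndex_eq_one.mp
      (le_antisymm h3 (Nat.one_le_iff_ne_zero.mpr (relIndex_ne_zero' _ _))))

/-- The second factorisation. -/
theorem factor_two : ∀ (n : ℕ) (L : Type u) [Group L] [Finite L], Nat.card L = n → Local L →
    ∀ S : Sylow 2 L, normalizer (uHat (S : Subgroup L) : Set L) ⊔
      normalizer (Cfsg.thompsonSubgroupOf 2 (S : Subgroup L) : Set L) = ⊤ := by
  intro n
  induction n using Nat.strong_induction_on with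
  | _ n ih =>
  intro L _ _ hn hL S
  haveI : Fact (Nat.Prime 2) := ⟨Nat.prime_two⟩
  by_contra hne
  refine Min.false (S := S) (M := normalizer (uHat (S : Subgroup L) : Set L) ⊔
      normalizer (Cfsg.thompsonSubgroupOf 2 (S : Subgroup L) : Set L))
    ⟨hL, hne, fun K hK hSK => ?_, le_sup_right, le_sup_left⟩
  have hS' : ((S.subtype hSK : Sylow 2 K) : Subgroup K).map K.subtype = (S : Subgroup L) := by
    rw [Sylow.coe_subtype, Subgroup.map_subgroupOf_eq_of_le hSK]
  have h1 := ih _ (hn ▸ Grp.card_lt_of_ne_top hK) K rfl (hL.overgroup S hSK) (S.subtype hSK)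
  have h2 : K = (⊤ : Subgroup K).map K.subtype := by
    rw [← MonoidHom.range_eq_map, Subgroup.range_subtype]
  rw [h2, ← h1, Subgroup.map_sup]
  refine sup_le_sup ?_ ?_
  · refine (Subgroup.le_normalizer_map K.subtype).trans (le_of_eq ?_)
    rw [uHat_map K.subtype_injective, hS']
  · refine (Subgroup.le_normalizer_map K.subtype).trans (le_of_eq ?_)
    rw [← JComp.thompson_map K.subtype K.subtype_injective, hS']

end Cfsg.Agent.Block.SFour
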